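import Groth.Agent.Lib.SmallLift.Torsor
import Groth.Agent.Lib.SmallLift.Tower
import Groth.Prelude.Def_ArtFun4

/-!
# Extensions of a deformation over a small surjection of Artinian rings
-/

noncomputable section

universe u

open CategoryTheory CategoryTheory.Limits AlgebraicGeometry
open ArtFun
open scoped TensorProduct

namespace Groth.Agent.Lib.SmallLift.ArtTorsor

variable {k : Type u} [Field k] {X₀ : Scheme.{u}} {x : X₀ ⟶ Spec (CommRingCat.of k)} {C' C : Art k k}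
  (p : C' ⟶ C) (𝒳 : DefSch X₀ x C)

/-- Extensions of a deformation. -/
abbrev Extn := Σ 𝒳' : DefSch X₀ x C', (𝒳'.baseChange p).Iso 𝒳

/-- The equivalence of extensions. -/
abbrev ExtRel (a b : Extn p 𝒳) : Prop := ∃ ψ : a.1.Iso b.1, ((ψ.baseChange p).trans b.2).iso = a.2.iso

/-- An extension as a lift. -/
abbrev toLft (a : Extn p 𝒳) : Lft p.toAlgHom.toRingHom 𝒳.f where
  Z := a.1.total
  p := a.1.f
  flat := a.1.flat
  j := a.2.iso.inv ≫ pullback.fst a.1.f (Art.specMap p)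
  pb := by
    have h1 : IsPullback a.2.iso.inv 𝒳.f (pullback.snd a.1.f (Art.specMap p)) (𝟙 _) :=
      IsPullback.of_horiz_isIso ⟨by rw [Category.comp_id]; exact a.2.symm.hom_f⟩
    have h2 := h1.paste_horiz (IsPullback.of_hasPullback a.1.f (Art.specMap p))
    rwa [Category.id_comp] at h2

lemma i_toLft (a : Extn p 𝒳) : 𝒳.i ≫ (toLft p 𝒳 a).j = a.1.i := by
  show 𝒳.i ≫ a.2.iso.inv ≫ pullback.fst a.1.f (Art.specMap p) = a.1.i
  rw [← Category.assoc]
  exact (congrArg (· ≫ pullback.fst a.1.f (Art.specMap p)) a.2.symm.i_hom).trans (DefSch.baseChange_i_fst a.1 p)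

/-- A lift as a deformation. -/
abbrev ofLft₁ (E : Lft p.toAlgHom.toRingHom 𝒳.f) : DefSch X₀ x C' where
  total := E.Z
  f := E.p
  flat := E.flat
  i := 𝒳.i ≫ E.j
  isPullback := by
    have := 𝒳.isPullback.paste_horiz E.pb
    rwa [show Art.specRes C ≫ spec p.toAlgHom.toRingHom = Art.specRes C' from Art.specRes_comp p] at this

/-- A lift as an extension. -/
abbrev ofLft (E : Lft p.toAlgHom.toRingHom 𝒳.f) : Extn p 𝒳 :=
  ⟨ofLft₁ p 𝒳 E,
    { iso := (IsPullback.of_hasPullback (ofLft₁ p 𝒳 E).f (Art.specMap p)).isoIsPullback _ _ E.pb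
      hom_f := IsPullback.isoIsPullback_hom_snd _ _ _ _
      i_hom := by
        refine E.pb.hom_ext ?_ ?_
        · rw [Category.assoc, IsPullback.isoIsPullback_hom_fst]
          exact DefSch.baseChange_i_fst (ofLft₁ p 𝒳 E) p
        · rw [Category.assoc, IsPullback.isoIsPullback_hom_snd]
          exact (DefSch.baseChange_i_f (ofLft₁ p 𝒳 E) p).trans 𝒳.i_f.symm }⟩

lemma toLft_ofLft_j (E : Lft p.toAlgHom.toRingHom 𝒳.f) : (toLft p 𝒳 (ofLft p 𝒳 E)).j = E.j :=
  IsPullback.isoIsPullback_inv_fst _ _ (IsPullback.of_hasPullback (ofLft₁ p 𝒳 E).f (Art.specMap p)) E.pb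

lemma rel_of_extRel {a b : Extn p 𝒳} (h : ExtRel p 𝒳 a b) : Lft.Rel (toLft p 𝒳 a) (toLft p 𝒳 b) := by
  obtain ⟨ψ, hψ⟩ := h
  refine ⟨ψ.iso, ψ.hom_f, ?_⟩
  show (a.2.iso.inv ≫ pullback.fst a.1.f (Art.specMap p)) ≫ ψ.iso.hom =
    b.2.iso.inv ≫ pullback.fst b.1.f (Art.specMap p)
  rw [← hψ]
  show ((b.2.iso.inv ≫ (ψ.baseChange p).iso.inv) ≫ pullback.fst a.1.f (Art.specMap p)) ≫ ψ.iso.hom = _
  rw [Category.assoc, ← DefSch.pullMap_fst ψ.iso.hom ψ.hom_f p, ← Category.assoc]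
  refine congrArg (· ≫ pullback.fst b.1.f (Art.specMap p)) ?_
  show (b.2.iso.inv ≫ (ψ.baseChange p).iso.inv) ≫ (ψ.baseChange p).iso.hom = b.2.iso.inv
  rw [Category.assoc, Iso.inv_hom_id, Category.comp_id]

lemma extRel_of_rel {a b : Extn p 𝒳} (h : Lft.Rel (toLft p 𝒳 a) (toLft p 𝒳 b)) : ExtRel p 𝒳 a b := by
  obtain ⟨e, hf, hj⟩ := h
  let ψ : a.1.Iso b.1 := ⟨e, hf, by rw [← i_toLft p 𝒳 a, ← i_toLft p 𝒳 b, ← hj, Category.assoc]⟩
  refine ⟨ψ, Iso.ext ?_⟩
  show DefSch.pullMap e.hom hf p ≫ b.2.iso.hom = a.2.iso.hom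
  have key : a.2.iso.inv ≫ DefSch.pullMap e.hom hf p = b.2.iso.inv := by
    apply pullback.hom_ext
    · rw [Category.assoc, DefSch.pullMap_fst]
      exact (Category.assoc _ _ _).symm.trans hj
    · rw [Category.assoc, DefSch.pullMap_snd]
      exact a.2.symm.hom_f.trans b.2.symm.hom_f.symm
  rw [(Iso.inv_comp_eq _).1 key, Category.assoc, Iso.inv_hom_id, Category.comp_id]

/-- Classes of extensions are classes of lifts. -/
def quotEquiv : Quot (ExtRel p 𝒳) ≃ Quot (Lft.Rel (π := p.toAlgHom.toRingHom) (f := 𝒳.f)) where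
  toFun := Quot.map (toLft p 𝒳) fun _ _ h => rel_of_extRel p 𝒳 h
  invFun := Quot.map (ofLft p 𝒳) fun E E' h => extRel_of_rel p 𝒳 (by
    obtain ⟨e, hp, hj⟩ := h
    refine ⟨e, hp, ?_⟩
    rw [toLft_ofLft_j, toLft_ofLft_j]
    exact hj)
  left_inv := by
    rintro ⟨a⟩
    refine Quot.sound (extRel_of_rel p 𝒳 ⟨Iso.refl _, Category.id_comp _, ?_⟩)
    rw [toLft_ofLft_j]
    exact Category.comp_id _
  right_inv := by
    rintro ⟨E⟩
    refine Quot.sound ⟨Iso.refl _, Category.id_comp _, ?_⟩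
    rw [toLft_ofLft_j]
    exact Category.comp_id _

variable {p}

/-- Coordinates on the kernel. -/
theorem nonempty_ker_equiv {m : ℕ} {t : Fin m → C'} (h : Alg.Small p.toAlgHom.toRingHom C.res.toRingHom t) :
    Nonempty ((Fin m → k) ≃ₗ[k] ↥(RingHom.ker p.toAlgHom)) := by
  have hmem : ∀ i, t i ∈ RingHom.ker p.toAlgHom := fun i =>
    (h.ker_eq.symm ▸ Ideal.subset_span ⟨i, rfl⟩ : t i ∈ RingHom.ker p.toAlgHom.toRingHom)
  have hres : ∀ c : k, C.res.toRingHom (p.toAlgHom.toRingHom (algebraMap k C' c)) = c := fun c => by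
    show C.res (p.toAlgHom (algebraMap k C' c)) = c
    rw [AlgHom.commutes, AlgHom.commutes]
    rfl
  let L : (Fin m → k) →ₗ[k] ↥(RingHom.ker p.toAlgHom) :=
    { toFun := fun c => ⟨∑ i, algebraMap k C' (c i) * t i, Ideal.sum_mem _ fun i _ => Ideal.mul_mem_left _ _ (hmem i)⟩
      map_add' := fun c d => Subtype.ext (by
        simp only [Pi.add_apply, map_add, add_mul, Finset.sum_add_distrib]
        rfl)
      map_smul' := fun r c => Subtype.ext (by
        show ∑ i, algebraMap k C' (r • c i) * t i = r • ∑ i, algebraMap k C' (c i) * t i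
        rw [Algebra.smul_def, Finset.mul_sum]
        refine Finset.sum_congr rfl fun i _ => ?_
        rw [smul_eq_mul, map_mul, mul_assoc]) }
  refine ⟨LinearEquiv.ofBijective L ⟨?_, ?_⟩⟩
  · refine (injective_iff_map_eq_zero L).2 fun c hc => funext fun i => ?_
    exact (hres (c i)).symm.trans (h.indep _ (congrArg Subtype.val hc) i)
  · rintro ⟨a, ha⟩
    have ha' : a ∈ Ideal.span (Set.range t) := h.ker_eq ▸ ha
    obtain ⟨r, rfl⟩ := Ideal.mem_span_range_iff_exists_fun.1 ha'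
    refine ⟨fun i => C.res.toRingHom (p.toAlgHom.toRingHom (r i)), Subtype.ext ?_⟩
    show ∑ i, algebraMap k C' (C.res.toRingHom (p.toAlgHom.toRingHom (r i))) * t i = ∑ i, r i * t i
    refine Finset.sum_congr rfl fun i _ => ?_
    have := h.kill (algebraMap k C' (C.res.toRingHom (p.toAlgHom.toRingHom (r i))) - r i)
      (by rw [map_sub, map_sub, hres, sub_self]) i
    rw [sub_mul, sub_eq_zero] at this
    exact this

/-- Extensions of a deformation form a set in bijection with `H¹(T) ⊗ J`. -/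
theorem nonempty_extn_equiv [IsSeparated x] [Smooth x] [DCoh.HasSheafHom (Omega.sheaf x)]
    (hs : Function.Surjective p.toAlgHom) (hk : IsLocalRing.maximalIdeal C' * RingHom.ker p.toAlgHom = ⊥)
    (hne : Nonempty (Extn p 𝒳))
    [Module k (Coh.HH X₀ ((DCoh.sheafHom (Omega.sheaf x)).obj (Coh.structureModule X₀)) 1)] :
    Nonempty (Quot (ExtRel p 𝒳) ≃
      (Coh.HH X₀ ((DCoh.sheafHom (Omega.sheaf x)).obj (Coh.structureModule X₀)) 1 ⊗[k] ↥(RingHom.ker p.toAlgHom))) := by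
  obtain ⟨n, hn⟩ := IsArtinianRing.isNilpotent_jacobson_bot (R := C')
  rw [IsLocalRing.jacobson_eq_maximalIdeal (⊥ : Ideal C') bot_ne_top] at hn
  have hmax : RingHom.ker (C.res.toRingHom.comp p.toAlgHom.toRingHom) = IsLocalRing.maximalIdeal C' := by
    ext a
    rw [Art.mem_maximalIdeal_iff, RingHom.mem_ker, ← Art.res_app p]
    rfl
  obtain ⟨m, t, h⟩ := exists_small (π := p.toAlgHom.toRingHom) (ρ := C.res.toRingHom) hs C.res_surjective
    ⟨n, by rw [hmax]; exact hn⟩ (by rw [hmax]; exact hk)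
  haveI : IsClosedImmersion (spec C.res.toRingHom) := IsClosedImmersion.spec_of_surjective _ C.res_surjective
  haveI : Surjective (spec C.res.toRingHom) := surjective_spec _ C.res_surjective fun a ha => by
    obtain ⟨N, hN⟩ := IsArtinianRing.isNilpotent_jacobson_bot (R := C)
    rw [IsLocalRing.jacobson_eq_maximalIdeal (⊥ : Ideal C) bot_ne_top] at hN
    refine ⟨N, ?_⟩
    have := Ideal.pow_mem_pow ((Art.mem_maximalIdeal_iff C a).2 ha) N
    rwa [hN] at this
  have hY : IsPullback 𝒳.i x 𝒳.f (spec C.res.toRingHom) := 𝒳.isPullback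
  haveI : IsClosedImmersion 𝒳.i := MorphismProperty.of_isPullback hY.flip inferInstance
  haveI : Surjective 𝒳.i := MorphismProperty.of_isPullback hY.flip inferInstance
  obtain ⟨a₀⟩ := hne
  obtain ⟨e₁⟩ := nonempty_lft_equiv h hY (toLft p 𝒳 a₀)
  obtain ⟨e₂⟩ := nonempty_tan_equiv (x := x)
  obtain ⟨e₃⟩ := nonempty_ker_equiv h
  exact ⟨(quotEquiv p 𝒳).trans (e₁.trans ((Equiv.piCongrRight fun _ => e₂).trans
    ((TensorProduct.piScalarRight k k _ (Fin m)).symm.toEquiv.trans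
      (TensorProduct.congr (LinearEquiv.refl k _) e₃).toEquiv)))⟩

end Groth.Agent.Lib.SmallLift.ArtTorsor
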