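import Groth.Agent.Lib.SmallLift.H1
import Groth.Agent.Lib.Cech.Compare
import Groth.Agent.Lib.ZarCoh.Affine
import Groth.Agent.Lib.ArtinFun.SheafHomDual
import Groth.Agent.Lib.Modules.AffineSections

/-!
# Cech cocycles modulo coboundaries compute `H¹(T)`
-/

noncomputable section

universe u

open CategoryTheory CategoryTheory.Limits AlgebraicGeometry TopologicalSpace Opposite
open Groth.Agent.Lib.Cech.Complex

namespace Groth.Agent.Lib.SmallLift

section top

variable {X : TopCat.{u}} {ι : Type u} (U : ι → Opens X) (P : (Opens X)ᵒᵖ ⥤ AddCommGrpCat.{u})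

/-- Cocycles of degree one. -/
abbrev Z1 : AddSubgroup (Cochain U P 1) := (dC U P 1).ker

/-- Coboundaries inside the cocycles. -/
abbrev B1 : AddSubgroup (Z1 U P) := AddSubgroup.comap (Z1 U P).subtype (dC U P 0).range

/-- Cocycles modulo coboundaries. -/
abbrev Q1 : Type u := (Z1 U P) ⧸ (B1 U P)

theorem nonempty_Q1_addEquiv : Nonempty (Q1 U P ≃+ CohTop.cechH P U 1) := by
  let K := cx U P
  let φ : ↑(K.sc' 0 1 2).homology ≃+ ↑(K.homology 1) :=
    (K.homologyIsoSc' 0 1 2 (by simp) (by simp)).symm.addCommGroupIsoToAddEquiv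
  let ψ := (K.sc' 0 1 2).abHomologyIso.addCommGroupIsoToAddEquiv
  let e : Z1 U P →+ AddMonoidHom.ker (K.sc' 0 1 2).g.hom :=
    { toFun := fun c => ⟨(equiv U P 1).symm c.1, (equiv U P 2).injective (by
        show equiv U P 2 ((cx U P).d 1 2 ((equiv U P 1).symm c.1)) = equiv U P 2 0
        rw [equiv_d, AddEquiv.apply_symm_apply, map_zero]
        exact c.2)⟩
      map_zero' := Subtype.ext (map_zero _)
      map_add' := fun c d => Subtype.ext (map_add _ _ _) }
  let e' : Z1 U P →+ (AddMonoidHom.ker (K.sc' 0 1 2).g.hom) ⧸ AddMonoidHom.range (K.sc' 0 1 2).abToCycles :=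
    (QuotientAddGroup.mk' _).comp e
  have hs : Function.Surjective e' := fun y => by
    obtain ⟨⟨z, hz⟩, rfl⟩ := QuotientAddGroup.mk'_surjective _ y
    refine ⟨⟨equiv U P 1 z, ?_⟩, congrArg (QuotientAddGroup.mk' _) (Subtype.ext ((equiv U P 1).symm_apply_apply z))⟩
    show dC U P 1 (equiv U P 1 z) = 0
    rw [← equiv_d]
    exact (congrArg (equiv U P 2) hz).trans (map_zero _)
  have hker : e'.ker = B1 U P := by
    ext c
    rw [AddMonoidHom.mem_ker, AddSubgroup.mem_comap, AddMonoidHom.comp_apply, QuotientAddGroup.mk'_apply,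
      QuotientAddGroup.eq_zero_iff]
    constructor
    · rintro ⟨b, hb⟩
      refine ⟨equiv U P 0 b, ?_⟩
      rw [← equiv_d]
      exact (congrArg (equiv U P 1) (congrArg Subtype.val hb)).trans ((equiv U P 1).apply_symm_apply c.1)
    · rintro ⟨b, hb⟩
      refine ⟨(equiv U P 0).symm b, Subtype.ext ((equiv U P 1).injective ?_)⟩
      refine (equiv_d U P 0 ((equiv U P 0).symm b)).trans ?_
      rw [AddEquiv.apply_symm_apply, hb]
      exact ((equiv U P 1).apply_symm_apply c.1).symm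
  exact ⟨((QuotientAddGroup.quotientAddEquivOfEq hker.symm).trans
    (QuotientAddGroup.quotientKerEquivOfSurjective e' hs)).trans (ψ.symm.trans φ)⟩

end top

variable {k : Type u} [Field k] {X : Scheme.{u}} (x : X ⟶ Spec (CommRingCat.of k))

theorem isQuasicoherent_tan [QuasiSeparated x] [Smooth x] :
    (RefHull.homSh (SqZeroLift.DerHom.gΩ x (𝟙 X)) (Coh.structureModule X)).IsQuasicoherent := by
  haveI := SqZeroLift.ExtVanish.hasSheafHom' (SqZeroLift.DerHom.gΩ x (𝟙 X))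
  obtain ⟨e⟩ := Groth.Agent.H18.Sec.HomIso.nonempty_iso (SqZeroLift.DerHom.gΩ x (𝟙 X)) (Coh.structureModule X)
  exact Groth.Agent.Lib.Modules.AffineSections.isQCoh_of_isFinLocFree
    (TensorMod.LocFree.of_iso e
      (ArtinFun.SheafHomDual.isFinLocFree_sheafHom (SqZeroLift.ExtVanish.isFinLocFree_gΩ x (𝟙 X))))

theorem nonempty_Q1_equiv_H1 [IsSeparated x] [Smooth x] {ι : Type u} (U : ι → X.Opens) (hU : ∀ i, IsAffineOpen (U i))
    (hcov : iSup U = ⊤) : Nonempty (Q1 U (Tan x).obj ≃ CohTop.H (Tan x) 1) := by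
  obtain ⟨e⟩ := nonempty_Q1_addEquiv U (Tan x).obj
  haveI := isQuasicoherent_tan x
  have hacyc : Cech.Compare.InterAcyclic U (Tan x) := fun q i n => by
    refine ZarCoh.Affine.HU_subsingleton (RefHull.homSh (SqZeroLift.DerHom.gΩ x (𝟙 X)) (Coh.structureModule X)) ?_ n
    haveI : X.IsSeparated := ⟨by rw [← terminal.comp_from x]; infer_instance⟩
    exact Cech.Criterion.inter_mem {V : Opens X.toTopCat | IsAffineOpen (X := X) V}
      (fun V hV W hW => IsAffineOpen.inf hV hW) U hU i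
  obtain ⟨e'⟩ := Cech.Compare.nonempty_cechH_addEquiv_H hcov 1 (Tan x) hacyc
  exact ⟨(e.trans e').toEquiv⟩

/-- `H¹` of isomorphic modules. -/
theorem nonempty_H_equiv_of_iso {X : Scheme.{u}} {M N : X.Modules} (e : M ≅ N) (n : ℕ) :
    Nonempty (Coh.HH X M n ≃ Coh.HH X N n) := by
  let F := SheafOfModules.toSheaf X.ringCatSheaf
  let f := Sheaf.H.map (F.map e.hom) n
  let g := Sheaf.H.map (F.map e.inv) n
  refine ⟨⟨f, g, fun a => ?_, fun a => ?_⟩⟩
  · have h1 : F.map e.hom ≫ F.map e.inv = 𝟙 (F.obj M) :=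
      ((F.map_comp e.hom e.inv).symm.trans (congrArg F.map e.hom_inv_id)).trans (F.map_id M)
    rw [← Sheaf.H.map_comp_apply, h1, Sheaf.H.map_id_apply]
  · have h1 : F.map e.inv ≫ F.map e.hom = 𝟙 (F.obj N) :=
      ((F.map_comp e.inv e.hom).symm.trans (congrArg F.map e.inv_hom_id)).trans (F.map_id N)
    rw [← Sheaf.H.map_comp_apply, h1, Sheaf.H.map_id_apply]

/-- `H¹` of the sheaf Hom out of `Ω`. -/
theorem nonempty_tan_equiv [QuasiSeparated x] [DCoh.HasSheafHom (Omega.sheaf x)] :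
    Nonempty (CohTop.H (Tan x) 1 ≃ Coh.HH X ((DCoh.sheafHom (Omega.sheaf x)).obj (Coh.structureModule X)) 1) := by
  haveI := SqZeroLift.ExtVanish.hasSheafHom' (SqZeroLift.DerHom.gΩ x (𝟙 X))
  obtain ⟨e⟩ := Groth.Agent.H18.Sec.HomIso.nonempty_iso (SqZeroLift.DerHom.gΩ x (𝟙 X)) (Coh.structureModule X)
  let e' : SqZeroLift.DerHom.gΩ x (𝟙 X) ≅ Omega.sheaf x := (Scheme.Modules.pullbackId X).app (Omega.sheaf x)
  let A := SqZeroLift.DerHom.gΩ x (𝟙 X)
  let T := (DCoh.tensorBi (X := X))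
  let e3 : DCoh.sheafHom A ≅ DCoh.sheafHom (Omega.sheaf x) :=
    ((Adjunction.ofIsLeftAdjoint (T.obj A)).ofNatIsoLeft (T.mapIso e')).rightAdjointUniq
      (Adjunction.ofIsLeftAdjoint (T.obj (Omega.sheaf x)))
  obtain ⟨a⟩ := nonempty_H_equiv_of_iso (e.symm ≪≫ e3.app (Coh.structureModule X)) 1
  exact ⟨a⟩

end Groth.Agent.Lib.SmallLift
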