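import Groth.Agent.Lib.SmallLift.Natural
import Groth.Agent.Lib.ProjCoh.CechNat

/-!
# The Cech class of a lift and its behaviour under a change of the small surjection
-/

noncomputable section

universe u

open CategoryTheory CategoryTheory.Limits AlgebraicGeometry TopologicalSpace Opposite
open Groth.Agent.Lib.Cech.Complex
open Groth.Agent.Lib.ProjCoh

namespace Groth.Agent.Lib.SmallLift

open Alg

section top

variable {X : TopCat.{u}} {ι : Type u} (U : ι → Opens X) {P Q : (Opens X)ᵒᵖ ⥤ AddCommGrpCat.{u}}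

/-- The class of a cocycle, as a homomorphism. -/
def qz (P : (Opens X)ᵒᵖ ⥤ AddCommGrpCat.{u}) : Z1 U P →+ CohTop.cechH P U 1 :=
  AddMonoidHom.mk' (fun c => CechNat.cls P c.1 c.2) fun c c' => CechNat.cls_add P c.1 c'.1 c.2 c'.2

/-- The class on cocycles modulo coboundaries. -/
def qc (P : (Opens X)ᵒᵖ ⥤ AddCommGrpCat.{u}) : Q1 U P →+ CohTop.cechH P U 1 :=
  QuotientAddGroup.lift (B1 U P) (qz U P) fun c hc => by
    obtain ⟨c, hc'⟩ := c
    obtain ⟨b, rfl⟩ := hc
    exact CechNat.cls_eq_zero_of P b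

theorem qc_mk (c : Z1 U P) : qc U P (QuotientAddGroup.mk' (B1 U P) c) = qz U P c := rfl

theorem qc_bijective : Function.Bijective (qc U P) := by
  refine ⟨(injective_iff_map_eq_zero _).2 fun q hq => ?_, fun z => ?_⟩
  · obtain ⟨c, rfl⟩ := QuotientAddGroup.mk'_surjective (B1 U P) q
    obtain ⟨b, hb⟩ := CechNat.exists_of_cls_eq_zero P c.1 c.2 hq
    exact (QuotientAddGroup.eq_zero_iff c).2 ⟨b, hb⟩
  · obtain ⟨c, hc, rfl⟩ := CechNat.cls_surjective P (U := U) z
    exact ⟨QuotientAddGroup.mk' (B1 U P) ⟨c, hc⟩, rfl⟩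

/-- A morphism of presheaves on cocycles. -/
def mapZ (φ : P ⟶ Q) : Z1 U P →+ Z1 U Q :=
  AddMonoidHom.mk' (fun c => ⟨Cech.Complex.map φ 1 c.1, by
    show dC U Q 1 _ = 0
    rw [← map_dC, c.2, map_zero]⟩) fun c c' => Subtype.ext (map_add _ _ _)

theorem qz_mapZ (φ : P ⟶ Q) (c : Z1 U P) :
    qz U Q (mapZ U φ c) = HomologicalComplex.homologyMap ((cechComplexFunctor U).map φ) 1 (qz U P c) :=
  (CechNat.cls_map P φ c.1 c.2).symm

end top

variable {k : Type u} [Field k] {X : Scheme.{u}} (x : X ⟶ Spec (CommRingCat.of k))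

/-- Multiplication by a scalar on the sheaf of derivations. -/
def smulT [QuasiSeparated x] (c : k) : Tan x ⟶ Tan x :=
  Coh.smulAb (RefHull.homSh (SqZeroLift.DerHom.gΩ x (𝟙 X)) (Coh.structureModule X)) (Coh.toGlobal x c)

theorem evT_smulT [QuasiSeparated x] (c : k) {U V : X.Opens} (hl : V ≤ U) (y : X) (hy : y ∈ V) (z : Γ(X, V))
    (s : (Tan x).obj.obj (op U)) {a : Γ(X, V)} (e : evT V y hy (hl hy) z s = germO V y hy a) :
    evT V y hy (hl hy) z ((smulT x c).hom.app (op U) s) = germO V y hy (cst x V c * a) := by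
  let r : Γ(X, U) := Coh.resTop X (op U) (Coh.toGlobal x c)
  show X.presheaf.germ U y (hl hy) r • evT V y hy (hl hy) z s = _
  rw [e]
  have hr : X.presheaf.germ U y (hl hy) r = X.presheaf.germ V y hy (cst x V c) := by
    have h1 : cst x V c = (X.presheaf.map (homOfLE (le_top (a := V))).op).hom (Coh.toGlobal x c) := rfl
    rw [h1, TopCat.Presheaf.germ_res_apply]
    exact TopCat.Presheaf.germ_res_apply X.presheaf (homOfLE (le_top (a := U))) y (hl hy) _
  rw [hr]
  exact (Mero.germ_smul (F := Coh.structureModule X) V y hy (cst x V c) a).symm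

variable {x}
variable {A' A'' A : Type u} [CommRing A'] [CommRing A''] [CommRing A] {π : A' →+* A} {π'' : A'' →+* A}
  {ρ : A →+* k} {Y : Scheme.{u}} {f : Y ⟶ Spec (CommRingCat.of A)}
  {iY : X ⟶ Y} [IsClosedImmersion iY] [Surjective iY] {m m'' : ℕ} {t : Fin m → A'} {t'' : Fin m'' → A''}
  (h : Small π ρ t) (h'' : Small π'' ρ t'') (hY : IsPullback iY x f (spec ρ))

/-- A morphism of lifts over a morphism of the rings, as a morphism of pieces. -/
def Lft.pmor {g : A' →+* A''} (E : Lft π f) (E'' : Lft π'' f) (u : E''.Z ⟶ E.Z) (hp : u ≫ E.p = E''.p ≫ spec g)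
    (hj : E''.j ≫ u = E.j) : PMor g (E.piece h hY) (E''.piece h'' hY) where
  u := u
  hp := hp
  hc := by
    show ((⊤ : X.Opens).ι ≫ iY ≫ E''.j) ≫ u = (⊤ : X.Opens).ι ≫ iY ≫ E.j
    rw [Category.assoc, Category.assoc, hj]
  he := by
    show ((Nil.img iY (⊤ : X.Opens)).ι ≫ E''.j) ≫ u = (Nil.img iY (⊤ : X.Opens)).ι ≫ E.j
    rw [Category.assoc, hj]

variable {κ : Type u} (W : κ → X.Opens) (hW : ∀ a, IsAffineOpen (W a))
  (hi : ∀ a : Fin 2 → κ, IsAffineOpen (inter W a)) [IsSeparated x] [Smooth x]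
  {g : A' →+* A''} (M : Fin m → Fin m'' → A'') (hM : ∀ i, g (t i) = ∑ j, M i j * t'' j)
  {P : Piece π ρ x f iY (⊤ : X.Opens)} {P'' : Piece π'' ρ x f iY (⊤ : X.Opens)} (uP : PMor g P P'')

include hM uP in
/-- The class of the base change of a lift. -/
theorem Lft.cls_natural (E : Lft π f) (E'' : Lft π'' f) (u : E''.Z ⟶ E.Z) (hpb : IsPullback u E''.p E.p (spec g))
    (hj : E''.j ≫ u = E.j) (j : Fin m'') :
    qc W (Tan x).obj (E''.cls h'' hY W hW hi P'' j) =
      ∑ i, HomologicalComplex.homologyMap ((cechComplexFunctor W).map (smulT x (ρ (π'' (M i j)))).hom) 1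
        (qc W (Tan x).obj (E.cls h hY W hW hi P i)) := by
  let Q := E.piece h hY
  let Q'' := E''.piece h'' hY
  let uQ : PMor g Q Q'' := Lft.pmor h h'' hY E E'' u hpb.w hj
  let θ := E.th h hY W hW P
  have hθ : ∀ a, Comp P Q (le_top : W a ≤ ⊤) le_top (θ a) := E.comp_th h hY W hW P
  choose η hη he using fun a => exists_comp_natural uP uQ h'' hpb (hW a) (hθ a)
  have e1 := congrFun (mk_diffC_eq h'' W hW hi (E''.th h'' hY W hW P'') η (E''.comp_th h'' hY W hW P'') hη) j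
  refine (congrArg (qc W (Tan x).obj) e1).trans ?_
  show qz W (Tan x).obj ⟨diffC h'' P'' Q'' W hW hi (fun _ => le_top) (fun _ => le_top) η hη j, _⟩ =
    ∑ i, HomologicalComplex.homologyMap ((cechComplexFunctor W).map (smulT x (ρ (π'' (M i j)))).hom) 1 (qz W (Tan x).obj
      ⟨diffC h P Q W hW hi (fun _ => le_top) (fun _ => le_top) θ hθ i, _⟩)
  simp only [← qz_mapZ, ← map_sum]
  refine congrArg (qz W (Tan x).obj) (Subtype.ext (funext fun a => ?_))
  refine evT_ext fun V hV hl y hy hU z => ?_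
  rw [evT_diffC h'' P'' Q'' W hW hi _ _ η hη j a hV hl y hy z, AddSubmonoidClass.coe_finsetSum, Finset.sum_apply, map_sum]
  refine Eq.trans ?_ (Finset.sum_congr rfl fun i _ => (evT_smulT x (ρ (π'' (M i j))) hl y hy z
    (diffC h P Q W hW hi (fun _ => le_top) (fun _ => le_top) θ hθ i a)
    (evT_diffC h P Q W hW hi _ _ θ hθ i a hV hl y hy z)).symm)
  rw [← map_sum]
  exact congrArg (germO V y hy) (dd_natural uP uQ h h'' M hM hV
    (comp_cres h (hW (a 0)) (hθ (a 0)) _ hV) (comp_cres h (hW (a 1)) (hθ (a 1)) _ hV)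
    (comp_cres h'' (hW (a 0)) (hη (a 0)) _ hV) (comp_cres h'' (hW (a 1)) (hη (a 1)) _ hV)
    (cres_natural uP uQ h h'' (hW (a 0)) (hθ (a 0)) (hη (a 0)) (he (a 0)) _ hV)
    (cres_natural uP uQ h h'' (hW (a 1)) (hθ (a 1)) (hη (a 1)) (he (a 1)) _ hV) j z)

end Groth.Agent.Lib.SmallLift
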