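import Groth.Agent.Lib.SmallLift.ClassNat
import Groth.Prelude.Def_ArtFun4
import Groth.Prelude.Def_Canon

/-!
# First order deformations and `H¹` of the tangent sheaf, linearly
-/

noncomputable section

universe u

open CategoryTheory CategoryTheory.Limits AlgebraicGeometry TopologicalSpace Opposite
open Groth.Agent.Lib.Cech.Complex
open Groth.Agent.Lib.ProjCoh
open ArtFun

namespace Groth.Agent.Lib.SmallLift.DefTangent

variable {k : Type u} [Field k] {X : Scheme.{u}}

/-- `H^n` of isomorphic modules, linearly. -/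
def hhEquiv [X.Over (Spec (CommRingCat.of k))] {M N : X.Modules} (e : M ≅ N) (n : ℕ) :
    Coh.HH X M n ≃ₗ[k] Coh.HH X N n :=
  LinearEquiv.ofLinear (Canon.HHlin k e.hom n) (Canon.HHlin k e.inv n)
    (LinearMap.ext fun s => by
      show Sheaf.H.map ((SheafOfModules.toSheaf X.ringCatSheaf).map e.hom) n
        (Sheaf.H.map ((SheafOfModules.toSheaf X.ringCatSheaf).map e.inv) n s) = s
      rw [← Sheaf.H.map_comp_apply]
      erw [← Functor.map_comp, e.inv_hom_id, CategoryTheory.Functor.map_id]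
      exact Sheaf.H.map_id_apply _)
    (LinearMap.ext fun s => by
      show Sheaf.H.map ((SheafOfModules.toSheaf X.ringCatSheaf).map e.inv) n
        (Sheaf.H.map ((SheafOfModules.toSheaf X.ringCatSheaf).map e.hom) n s) = s
      rw [← Sheaf.H.map_comp_apply]
      erw [← Functor.map_comp, e.hom_inv_id, CategoryTheory.Functor.map_id]
      exact Sheaf.H.map_id_apply _)

variable (x : X ⟶ Spec (CommRingCat.of k))

/-- The tangent sheaf as a sheaf of local homomorphisms. -/
theorem nonempty_tan_iso [QuasiSeparated x] [DCoh.HasSheafHom (Omega.sheaf x)] :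
    Nonempty (RefHull.homSh (SqZeroLift.DerHom.gΩ x (𝟙 X)) (Coh.structureModule X) ≅
      (DCoh.sheafHom (Omega.sheaf x)).obj (Coh.structureModule X)) := by
  haveI := SqZeroLift.ExtVanish.hasSheafHom' (SqZeroLift.DerHom.gΩ x (𝟙 X))
  obtain ⟨e⟩ := Groth.Agent.H18.Sec.HomIso.nonempty_iso (SqZeroLift.DerHom.gΩ x (𝟙 X)) (Coh.structureModule X)
  let e' : SqZeroLift.DerHom.gΩ x (𝟙 X) ≅ Omega.sheaf x := (Scheme.Modules.pullbackId X).app (Omega.sheaf x)
  let A := SqZeroLift.DerHom.gΩ x (𝟙 X)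
  let T := (DCoh.tensorBi (X := X))
  let e3 : DCoh.sheafHom A ≅ DCoh.sheafHom (Omega.sheaf x) :=
    ((Adjunction.ofIsLeftAdjoint (T.obj A)).ofNatIsoLeft (T.mapIso e')).rightAdjointUniq
      (Adjunction.ofIsLeftAdjoint (T.obj (Omega.sheaf x)))
  exact ⟨e.symm ≪≫ e3.app (Coh.structureModule X)⟩

/-! ### Small surjections onto the field -/

section basis

variable (C : Art k k)

lemma small_id {m : ℕ} {t : Fin m → C} (hker : RingHom.ker C.res.toRingHom = Ideal.span (Set.range t))
    (hkill : ∀ a : C, C.res a = 0 → ∀ i, a * t i = 0)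
    (hindep : ∀ c : Fin m → C, ∑ i, c i * t i = 0 → ∀ i, C.res (c i) = 0) :
    Alg.Small C.res.toRingHom (RingHom.id k) t :=
  ⟨C.res_surjective, Function.surjective_id, hker, hkill, hindep, by
    obtain ⟨n, hn⟩ := IsArtinianRing.isNilpotent_jacobson_bot (R := C)
    rw [IsLocalRing.jacobson_eq_maximalIdeal (⊥ : Ideal C) bot_ne_top] at hn
    refine ⟨n, ?_⟩
    rw [RingHom.id_comp, show RingHom.ker C.res.toRingHom = IsLocalRing.maximalIdeal C by
      ext a; exact (Art.mem_maximalIdeal_iff C a).symm]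
    exact hn⟩

lemma fst_zero_eq_inr {M : Type u} [AddCommGroup M] [Module k M] (a : TrivSqZeroExt k M)
    (ha : TrivSqZeroExt.fst a = 0) : TrivSqZeroExt.inr (TrivSqZeroExt.snd a) = a :=
  TrivSqZeroExt.ext (by rw [TrivSqZeroExt.fst_inr, ha]) (TrivSqZeroExt.snd_inr _ _)

lemma mul_inr_eq_zero {M : Type u} [AddCommGroup M] [Module k M] [Module kᵐᵒᵖ M] [SMulCommClass k kᵐᵒᵖ M]
    [IsCentralScalar k M] (a : TrivSqZeroExt k M) (ha : TrivSqZeroExt.fst a = 0) (v : M) :
    a * TrivSqZeroExt.inr v = 0 :=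
  TrivSqZeroExt.ext (by simp [TrivSqZeroExt.fst_mul, ha]) (by simp [TrivSqZeroExt.snd_mul, ha])

lemma snd_mul_inr {M : Type u} [AddCommGroup M] [Module k M] [Module kᵐᵒᵖ M] [SMulCommClass k kᵐᵒᵖ M]
    [IsCentralScalar k M] (a : TrivSqZeroExt k M) (v : M) :
    TrivSqZeroExt.snd (a * TrivSqZeroExt.inr v) = TrivSqZeroExt.fst a • v := by
  simp [TrivSqZeroExt.snd_mul]

lemma tszeMap_inr {M N : Type u} [AddCommGroup M] [Module k M] [Module kᵐᵒᵖ M] [SMulCommClass k kᵐᵒᵖ M]
    [IsCentralScalar k M] [IsScalarTower k kᵐᵒᵖ M]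
    [AddCommGroup N] [Module k N] [Module kᵐᵒᵖ N] [SMulCommClass k kᵐᵒᵖ N]
    [IsCentralScalar k N] [IsScalarTower k kᵐᵒᵖ N] (f : M →ₗ[k] N) (v : M) :
    (Art.tszeMap f : TrivSqZeroExt k M →ₐ[k] TrivSqZeroExt k N) (TrivSqZeroExt.inr v) = TrivSqZeroExt.inr (f v) :=
  TrivSqZeroExt.ext (by simp) (by simp)

/-- The basis of the maximal ideal of the dual numbers. -/
def t1 : Fin 1 → (Art.dual k k).carrier := fun _ => (TrivSqZeroExt.inr 1 : TrivSqZeroExt k k)

/-- The basis of the maximal ideal of `k[ε₁, ε₂]`. -/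
def t2 : Fin 2 → (Art.dual2 k k).carrier :=
  ![(TrivSqZeroExt.inr (1, 0) : TrivSqZeroExt k (k × k)), (TrivSqZeroExt.inr (0, 1) : TrivSqZeroExt k (k × k))]

lemma dual_coef (f : k × k →ₗ[k] k) (v : k × k) :
    (Art.tszeMap f : TrivSqZeroExt k (k × k) →ₐ[k] TrivSqZeroExt k k) (TrivSqZeroExt.inr v) =
      algebraMap k (TrivSqZeroExt k k) (f v) * TrivSqZeroExt.inr 1 := by
  rw [tszeMap_inr, TrivSqZeroExt.algebraMap_eq_inl, TrivSqZeroExt.inl_mul_inr, smul_eq_mul, mul_one]

lemma scale_coef (c : k) :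
    (Art.tszeMap (c • LinearMap.id) : TrivSqZeroExt k k →ₐ[k] TrivSqZeroExt k k) (TrivSqZeroExt.inr 1) =
      algebraMap k (TrivSqZeroExt k k) c * TrivSqZeroExt.inr 1 := by
  rw [tszeMap_inr, TrivSqZeroExt.algebraMap_eq_inl, TrivSqZeroExt.inl_mul_inr, LinearMap.smul_apply,
    LinearMap.id_apply]

theorem small1 : Alg.Small (Art.dual k k).res.toRingHom (RingHom.id k) (t1 (k := k)) := by
  refine small_id _ (le_antisymm (fun a ha => ?_) ?_) (fun a ha i => mul_inr_eq_zero (M := k) a ha 1) fun c hc i => ?_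
  · have key : ∀ b : TrivSqZeroExt k k, TrivSqZeroExt.fst b = 0 →
        b ∈ Ideal.span (Set.range fun _ : Fin 1 => (TrivSqZeroExt.inr 1 : TrivSqZeroExt k k)) := fun b hb => by
      refine Ideal.mem_span_range_iff_exists_fun.2 ⟨fun _ => TrivSqZeroExt.inl (TrivSqZeroExt.snd b), ?_⟩
      rw [Fin.sum_univ_one, TrivSqZeroExt.inl_mul_inr, smul_eq_mul, mul_one]
      exact fst_zero_eq_inr b hb
    exact key a ha
  · rw [Ideal.span_le]
    rintro _ ⟨i, rfl⟩
    exact TrivSqZeroExt.fst_inr k (1 : k)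
  · obtain rfl : i = 0 := Subsingleton.elim _ _
    have key : ∀ b : TrivSqZeroExt k k, b * TrivSqZeroExt.inr 1 = 0 → TrivSqZeroExt.fst b = 0 := fun b hb => by
      have := congrArg TrivSqZeroExt.snd hb
      rwa [snd_mul_inr, smul_eq_mul, mul_one] at this
    rw [Fin.sum_univ_one] at hc
    exact key (c 0) hc

theorem small2 : Alg.Small (Art.dual2 k k).res.toRingHom (RingHom.id k) (t2 (k := k)) := by
  refine small_id _ (le_antisymm (fun a ha => ?_) ?_) (fun a ha i => ?_) fun c hc i => ?_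
  · have key : ∀ b : TrivSqZeroExt k (k × k), TrivSqZeroExt.fst b = 0 →
        b ∈ Ideal.span (Set.range (![TrivSqZeroExt.inr (1, 0), TrivSqZeroExt.inr (0, 1)] :
          Fin 2 → TrivSqZeroExt k (k × k))) := fun b hb => by
      refine Ideal.mem_span_range_iff_exists_fun.2
        ⟨![TrivSqZeroExt.inl (TrivSqZeroExt.snd b).1, TrivSqZeroExt.inl (TrivSqZeroExt.snd b).2], ?_⟩
      rw [Fin.sum_univ_two]
      refine Eq.trans ?_ (fst_zero_eq_inr b hb)
      simp only [Matrix.cons_val_zero, Matrix.cons_val_one, TrivSqZeroExt.inl_mul_inr]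
      rw [← TrivSqZeroExt.inr_add]
      refine congrArg TrivSqZeroExt.inr (Prod.ext ?_ ?_) <;> simp
    exact key a ha
  · rw [Ideal.span_le]
    rintro _ ⟨i, rfl⟩
    fin_cases i
    · exact TrivSqZeroExt.fst_inr k ((1 : k), (0 : k))
    · exact TrivSqZeroExt.fst_inr k ((0 : k), (1 : k))
  · fin_cases i
    · exact mul_inr_eq_zero (M := k × k) a ha _
    · exact mul_inr_eq_zero (M := k × k) a ha _
  · have key : ∀ b d : TrivSqZeroExt k (k × k),
        b * TrivSqZeroExt.inr (1, 0) + d * TrivSqZeroExt.inr (0, 1) = 0 →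
        TrivSqZeroExt.fst b = 0 ∧ TrivSqZeroExt.fst d = 0 := fun b d hb => by
      have := congrArg TrivSqZeroExt.snd hb
      rw [TrivSqZeroExt.snd_add, snd_mul_inr, snd_mul_inr, TrivSqZeroExt.snd_zero] at this
      exact ⟨by simpa using congrArg Prod.fst this, by simpa using congrArg Prod.snd this⟩
    rw [Fin.sum_univ_two] at hc
    obtain ⟨e0, e1⟩ := key (c 0) (c 1) hc
    fin_cases i
    · exact e0
    · exact e1

end basis

/-! ### The class of a deformation -/

variable {C C' : Art k k}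

instance : IsClosedImmersion (𝟙 X) := inferInstance

lemma isPullback_id : IsPullback (𝟙 X) x x (spec (RingHom.id k)) :=
  haveI : IsIso (spec (RingHom.id k)) := by
    rw [show spec (RingHom.id k) = 𝟙 _ from Spec.map_id _]; infer_instance
  IsPullback.of_horiz_isIso ⟨by rw [Category.id_comp, show spec (RingHom.id k) = 𝟙 _ from Spec.map_id _,
    Category.comp_id]⟩

/-- A deformation as a lift of `X`. -/
abbrev toLft (ξ : DefSch X x C) : Lft C.res.toRingHom x where
  Z := ξ.total
  p := ξ.f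
  flat := ξ.flat
  j := ξ.i
  pb := ξ.isPullback

/-- A lift of `X` as a deformation. -/
abbrev ofLft (E : Lft C.res.toRingHom x) : DefSch X x C where
  total := E.Z
  f := E.p
  flat := E.flat
  i := E.j
  isPullback := E.pb

lemma rel_iff (ξ ξ' : DefSch X x C) : Lft.Rel (toLft x ξ) (toLft x ξ') ↔ Nonempty (ξ.Iso ξ') :=
  ⟨fun ⟨e, hp, hj⟩ => ⟨⟨e, hp, hj⟩⟩, fun ⟨e⟩ => ⟨e.iso, e.hom_f, e.i_hom⟩⟩

section cls

variable [IsSeparated x] [Smooth x] {κ : Type u} (W : κ → X.Opens) (hW : ∀ a, IsAffineOpen (W a))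
  (hi : ∀ a : Fin 2 → κ, IsAffineOpen (inter W a)) {m m' : ℕ} {t : Fin m → C} {t' : Fin m' → C'}
  (h : Alg.Small C.res.toRingHom (RingHom.id k) t) (h' : Alg.Small C'.res.toRingHom (RingHom.id k) t')

/-- The Cech class of a deformation, with the trivial deformation as origin. -/
def dcls (ξ : DefSch X x C) (i : Fin m) : CohTop.cechH (Tan x).obj W 1 :=
  qc W (Tan x).obj ((toLft x ξ).cls h (isPullback_id x) W hW hi
    ((toLft x (DefSch.trivial X x inferInstance C)).piece h (isPullback_id x)) i)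

theorem dcls_eq_iff (hcov : iSup W = ⊤) (ξ ξ' : DefSch X x C) :
    dcls x W hW hi h ξ = dcls x W hW hi h ξ' ↔ Nonempty (ξ.Iso ξ') := by
  rw [← rel_iff x ξ ξ']
  constructor
  · intro e
    exact Lft.rel_of_cls_eq h (isPullback_id x) W hW hi _ hcov
      (funext fun i => (qc_bijective W (P := (Tan x).obj)).1 (congrFun e i))
  · intro e
    funext i
    exact congrArg (qc W (Tan x).obj) (congrFun (Lft.cls_eq_of_rel h (isPullback_id x) W hW hi _ e) i)

theorem exists_dcls (hcov : iSup W = ⊤) (c : Fin m → CohTop.cechH (Tan x).obj W 1) :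
    ∃ ξ : DefSch X x C, dcls x W hW hi h ξ = c := by
  choose q hq using fun i => (qc_bijective W (P := (Tan x).obj)).2 (c i)
  obtain ⟨E, hE⟩ := Lft.exists_cls_eq h (isPullback_id x) W hW hi
    ((toLft x (DefSch.trivial X x inferInstance C)).piece h (isPullback_id x)) hcov q
  exact ⟨ofLft x E, funext fun i => (congrArg (qc W (Tan x).obj) (congrFun hE i)).trans (hq i)⟩

include h' in
/-- The class of a base change. -/
theorem dcls_baseChange (g : C ⟶ C') (μ : Fin m → Fin m' → k)
    (hμ : ∀ i, g.toAlgHom (t i) = ∑ j, algebraMap k C' (μ i j) * t' j) (ξ : DefSch X x C) (j : Fin m') :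
    dcls x W hW hi h' (ξ.baseChange g) j =
      ∑ i, HomologicalComplex.homologyMap ((cechComplexFunctor W).map (smulT x (μ i j)).hom) 1
        (dcls x W hW hi h ξ i) := by
  have hcomp : Art.ofBase C ≫ g = Art.ofBase C' := Art.hom_ext (AlgHom.ext fun c => g.toAlgHom.commutes c)
  let T := DefSch.trivial X x inferInstance C
  let T' := DefSch.trivial X x inferInstance C'
  let u₀ : T'.total ⟶ T.total := pullback.lift (pullback.fst _ _) (pullback.snd _ _ ≫ Art.specMap g) (by
    rw [Category.assoc, ← Art.specMap_comp, hcomp]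
    exact pullback.condition)
  have hu : T'.i ≫ u₀ = T.i := by
    apply pullback.hom_ext
    · refine (Category.assoc T'.i u₀ _).trans ((congrArg (T'.i ≫ ·) (pullback.lift_fst _ _ _)).trans ?_)
      exact (DefSch.baseChange_i_fst _ _).trans (DefSch.baseChange_i_fst _ _).symm
    · refine (Category.assoc T'.i u₀ _).trans ((congrArg (T'.i ≫ ·) (pullback.lift_snd _ _ _)).trans ?_)
      rw [← Category.assoc]
      refine (congrArg (· ≫ Art.specMap g) (DefSch.baseChange_i_f (DefSch.self X x inferInstance) (Art.ofBase C'))).trans ?_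
      rw [Category.assoc, Art.specRes_comp]
      exact (DefSch.baseChange_i_f (DefSch.self X x inferInstance) (Art.ofBase C)).symm
  have hres : ∀ i j, (RingHom.id k) (C'.res.toRingHom (algebraMap k C' (μ i j))) = μ i j := fun i j =>
    C'.res.commutes (μ i j)
  have key := Lft.cls_natural h h' (isPullback_id x) W hW hi (g := g.toAlgHom.toRingHom)
    (fun i j => algebraMap k C' (μ i j)) hμ
    (P := (toLft x T).piece h (isPullback_id x)) (P'' := (toLft x T').piece h' (isPullback_id x))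
    (Lft.pmor h h' (isPullback_id x) (toLft x T) (toLft x T') u₀ (pullback.lift_snd _ _ _) hu)
    (toLft x ξ) (toLft x (ξ.baseChange g)) (pullback.fst ξ.f (Art.specMap g))
    (IsPullback.of_hasPullback ξ.f (Art.specMap g)) (DefSch.baseChange_i_fst ξ g) j
  simp only [hres] at key
  exact key

end cls

section dual

variable [IsSeparated x] [Smooth x] {κ : Type u} (W : κ → X.Opens) (hW : ∀ a, IsAffineOpen (W a))
  (hi : ∀ a : Fin 2 → κ, IsAffineOpen (inter W a))

theorem dcls_dual2_baseChange (g : Art.dual2 k k ⟶ Art.dual k k) (f : k × k →ₗ[k] k)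
    (hg : g.toAlgHom = (Art.tszeMap f : TrivSqZeroExt k (k × k) →ₐ[k] TrivSqZeroExt k k))
    (ζ : DefSch X x (Art.dual2 k k)) :
    dcls x W hW hi small1 (ζ.baseChange g) 0 =
      HomologicalComplex.homologyMap ((cechComplexFunctor W).map (smulT x (f (1, 0))).hom) 1
          (dcls x W hW hi small2 ζ 0) +
        HomologicalComplex.homologyMap ((cechComplexFunctor W).map (smulT x (f (0, 1))).hom) 1
          (dcls x W hW hi small2 ζ 1) := by
  have h0 : ∀ i : Fin 2, g.toAlgHom (t2 i) =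
      ∑ j, algebraMap k (Art.dual k k).carrier (![f (1, 0), f (0, 1)] i) * t1 j := fun i => by
    rw [Fin.sum_univ_one, hg]
    fin_cases i
    · exact dual_coef f (1, 0)
    · exact dual_coef f (0, 1)
  exact (dcls_baseChange x W hW hi small2 small1 g (fun i _ => ![f (1, 0), f (0, 1)] i) h0 ζ 0).trans
    (Fin.sum_univ_two _)

theorem dcls_scale (c : k) (ξ : DefSch X x (Art.dual k k)) :
    dcls x W hW hi small1 (ξ.baseChange (Art.scale c)) 0 =
      HomologicalComplex.homologyMap ((cechComplexFunctor W).map (smulT x c).hom) 1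
        (dcls x W hW hi small1 ξ 0) :=
  (dcls_baseChange x W hW hi small1 small1 (Art.scale c) (fun _ _ => c)
    (fun i => by rw [Fin.sum_univ_one]; exact scale_coef c) ξ 0).trans (Fin.sum_univ_one _)

end dual

/-- The `k`-vector space of first order deformations is `H¹` of the tangent sheaf. -/
theorem nonempty_linearEquiv (X : Scheme.{u}) [X.Over (Spec (CommRingCat.of k))]
    [IsSeparated (X ↘ Spec (CommRingCat.of k))] [Smooth (X ↘ Spec (CommRingCat.of k))]
    [DCoh.HasSheafHom (Omega.sheaf (X ↘ Spec (CommRingCat.of k)))]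
    [ArtFun.TangentStr (ArtFun.defFunctor (Λ := k) X (X ↘ Spec (CommRingCat.of k)))] :
    Nonempty (ArtFun.TangentSpace (ArtFun.defFunctor (Λ := k) X (X ↘ Spec (CommRingCat.of k))) ≃ₗ[k]
      Coh.HH X ((DCoh.sheafHom (Omega.sheaf (X ↘ Spec (CommRingCat.of k)))).obj (Coh.structureModule X)) 1) := by
  let x := X ↘ Spec (CommRingCat.of k)
  let κ := {V : X.Opens // IsAffineOpen V}
  let W : κ → X.Opens := fun a => a.1
  have hW : ∀ a : κ, IsAffineOpen (W a) := fun a => a.2
  have hcov : iSup W = ⊤ := eq_top_iff.2 fun y _ => by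
    obtain ⟨_, ⟨V, hV, rfl⟩, hyV, -⟩ := X.isBasis_affineOpens.exists_subset_of_mem_open (Set.mem_univ y) isOpen_univ
    exact Opens.mem_iSup.2 ⟨⟨V, hV⟩, hyV⟩
  have hi : ∀ a : Fin 2 → κ, IsAffineOpen (inter W a) := fun a => by
    rw [inter_two]; exact isAffineOpen_inf (x := x) (hW _) (hW _)
  haveI := isQuasicoherent_tan x
  have hacyc : Cech.Compare.InterAcyclic W (Tan x) := fun q i n => by
    refine ZarCoh.Affine.HU_subsingleton
      (RefHull.homSh (SqZeroLift.DerHom.gΩ x (𝟙 X)) (Coh.structureModule X)) ?_ n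
    haveI : X.IsSeparated := ⟨by rw [← terminal.comp_from x]; infer_instance⟩
    exact Cech.Criterion.inter_mem {V : Opens X.toTopCat | IsAffineOpen (X := X) V}
      (fun V hV W hW => IsAffineOpen.inf hV hW) W hW i
  obtain ⟨cmp⟩ := CechNat.nonempty_comparison (U := W) hcov 1
  obtain ⟨eT⟩ := nonempty_tan_iso x
  let T := RefHull.homSh (SqZeroLift.DerHom.gΩ x (𝟙 X)) (Coh.structureModule X)
  let ε : CohTop.cechH (Tan x).obj W 1 ≃+ Coh.HH X T 1 := (cmp.e (Tan x) hacyc).addCommGroupIsoToAddEquiv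
  have hε : ∀ (c : k) z, ε (HomologicalComplex.homologyMap ((cechComplexFunctor W).map (smulT x c).hom) 1 z) = c • ε z :=
    fun c z => (ConcreteCategory.congr_hom (cmp.nat (Tan x) (Tan x) (smulT x c) hacyc hacyc) z).symm
  let Φ : ArtFun.TangentSpace (ArtFun.defFunctor (Λ := k) X x) → Coh.HH X T 1 :=
    Quotient.lift (fun ξ : DefSch X x (Art.dual k k) => ε (dcls x W hW hi small1 ξ 0)) fun ξ ξ' e =>
      congrArg ε (congrFun ((dcls_eq_iff x W hW hi small1 hcov ξ ξ').2 e) 0)
  have hinj : Function.Injective Φ := fun a b => by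
    induction a using Quotient.inductionOn with | h ξ => ?_
    induction b using Quotient.inductionOn with | h ξ' => ?_
    intro e
    refine Quotient.sound ((dcls_eq_iff x W hW hi small1 hcov ξ ξ').1 (funext fun i => ?_))
    obtain rfl : i = 0 := Subsingleton.elim _ _
    exact ε.injective e
  have hsurj : Function.Surjective Φ := fun c => by
    obtain ⟨ξ, hξ⟩ := exists_dcls x W hW hi small1 hcov (fun _ => ε.symm c)
    refine ⟨Quotient.mk _ ξ, ?_⟩
    show ε (dcls x W hW hi small1 ξ 0) = c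
    rw [hξ, ε.apply_symm_apply]
  have hsmul : ∀ (c : k) a, Φ (c • a) = c • Φ a := fun c a => by
    induction a using Quotient.inductionOn with | h ξ => ?_
    refine (congrArg Φ (TangentStr.smul_eq c _)).trans ?_
    show ε (dcls x W hW hi small1 (ξ.baseChange (Art.scale c)) 0) = c • ε (dcls x W hW hi small1 ξ 0)
    rw [dcls_scale, hε]
  have hadd : ∀ a b, Φ (a + b) = Φ a + Φ b := fun a b => by
    obtain ⟨ζ, hζ⟩ := exists_dcls x W hW hi small2 hcov ![ε.symm (Φ a), ε.symm (Φ b)]
    have hone : ∀ z, HomologicalComplex.homologyMap ((cechComplexFunctor W).map (smulT x (1 : k)).hom) 1 z = z :=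
      fun z => ε.injective ((hε 1 z).trans (one_smul k _))
    have hzero : ∀ z, HomologicalComplex.homologyMap ((cechComplexFunctor W).map (smulT x (0 : k)).hom) 1 z = 0 :=
      fun z => ε.injective ((hε 0 z).trans ((zero_smul k _).trans (map_zero ε).symm))
    have h1 : (ArtFun.defFunctor (Λ := k) X x).map Art.pr₁ (Quotient.mk _ ζ) = a := hinj (by
      show ε (dcls x W hW hi small1 (ζ.baseChange Art.pr₁) 0) = Φ a
      rw [dcls_dual2_baseChange x W hW hi Art.pr₁ (LinearMap.fst k k k) rfl]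
      simp [hone, hzero, hζ])
    have h2 : (ArtFun.defFunctor (Λ := k) X x).map Art.pr₂ (Quotient.mk _ ζ) = b := hinj (by
      show ε (dcls x W hW hi small1 (ζ.baseChange Art.pr₂) 0) = Φ b
      rw [dcls_dual2_baseChange x W hW hi Art.pr₂ (LinearMap.snd k k k) rfl]
      simp [hone, hzero, hζ])
    have h3 : (ArtFun.defFunctor (Λ := k) X x).map Art.plus (Quotient.mk _ ζ) = a + b := by
      refine (TangentStr.add_eq (F := ArtFun.defFunctor (Λ := k) X x) _).symm.trans ?_
      rw [h1, h2]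
      rfl
    rw [← h3]
    show ε (dcls x W hW hi small1 (ζ.baseChange Art.plus) 0) = Φ a + Φ b
    rw [dcls_dual2_baseChange x W hW hi Art.plus (LinearMap.fst k k k + LinearMap.snd k k k) rfl]
    simp [hone, hζ]
  let L : ArtFun.TangentSpace (ArtFun.defFunctor (Λ := k) X x) →ₗ[k] Coh.HH X T 1 :=
    { toFun := Φ, map_add' := hadd, map_smul' := hsmul }
  let L' := LinearEquiv.ofBijective L ⟨hinj, hsurj⟩
  let R : Coh.HH X T 1 ≃ₗ[k] Coh.HH X ((DCoh.sheafHom (Omega.sheaf x)).obj (Coh.structureModule X)) 1 := hhEquiv eT 1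
  exact ⟨L'.trans R⟩

end Groth.Agent.Lib.SmallLift.DefTangent
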