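import Groth.Agent.Lib.SmallLift.Gluing
import Groth.Agent.Lib.GrpdGen.Saturated
import Mathlib.AlgebraicGeometry.Morphisms.UnderlyingMap

/-!
# Global lifts as pieces, and morphisms glued from compatible comparisons
-/

noncomputable section

universe u

open CategoryTheory CategoryTheory.Limits AlgebraicGeometry TopologicalSpace Opposite

namespace Groth.Agent.Lib.SmallLift

open Alg

variable {A' A k : Type u} [CommRing A'] [CommRing A] [Field k] {π : A' →+* A} {ρ : A →+* k}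
  {X Y : Scheme.{u}} {x : X ⟶ Spec (CommRingCat.of k)} {f : Y ⟶ Spec (CommRingCat.of A)}
  {iY : X ⟶ Y} [IsClosedImmersion iY] [Surjective iY]

omit [IsClosedImmersion iY] [Surjective iY] in
lemma isIso_ι_of_forall {Z : Scheme.{u}} {U : Z.Opens} (hU : ∀ z, z ∈ U) : IsIso U.ι := by
  haveI : Surjective U.ι := ⟨fun z => ⟨⟨z, hU z⟩, rfl⟩⟩
  exact (isIso_iff_isOpenImmersion_and_epi_base U.ι).2 ⟨inferInstance,
    (TopCat.epi_iff_surjective _).2 U.ι.surjective⟩

/-- A global lift as a piece. -/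
def globalPiece (hπ : Function.Surjective π) (hnil : RingHom.ker π ≤ nilradical A')
    (hY : IsPullback iY x f (spec ρ)) {Z : Scheme.{u}} (p : Z ⟶ Spec (CommRingCat.of A')) [Flat p] (j : Y ⟶ Z)
    (hj : IsPullback j f p (spec π)) : Piece π ρ x f iY (⊤ : X.Opens) where
  Z := Z
  p := p
  c := (⊤ : X.Opens).ι ≫ iY ≫ j
  eY := (Nil.img iY (⊤ : X.Opens)).ι ≫ j
  flat := inferInstance
  closed := by
    haveI : IsClosedImmersion (spec π) := IsClosedImmersion.spec_of_surjective _ hπ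
    haveI : IsClosedImmersion j := MorphismProperty.of_isPullback hj.flip ‹IsClosedImmersion (spec π)›
    haveI : IsIso (⊤ : X.Opens).ι := isIso_ι_of_forall fun z => trivial
    infer_instance
  surj := by
    haveI : Surjective (spec π) := ⟨fun z => by
      have hz : z ∈ Set.range (PrimeSpectrum.comap π) := by
        rw [range_comap_of_surjective _ _ hπ]
        intro r hr
        exact nilradical_le_prime (PrimeSpectrum.asIdeal z) (hnil hr)
      exact hz⟩
    haveI : Surjective j := MorphismProperty.of_isPullback hj.flip ‹Surjective (spec π)›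
    haveI : IsIso (⊤ : X.Opens).ι := isIso_ι_of_forall fun z => trivial
    infer_instance
  hc := by
    haveI : IsIso (⊤ : X.Opens).ι := isIso_ι_of_forall fun z => trivial
    have h1 := hY.paste_horiz hj
    rw [show spec ρ ≫ spec π = spec (ρ.comp π) by rw [← Spec.map_comp, ← CommRingCat.ofHom_comp]] at h1
    exact IsPullback.of_iso h1 (asIso (⊤ : X.Opens).ι).symm (Iso.refl _) (Iso.refl _) (Iso.refl _)
      (by simp) (by simp) (by simp) (by simp)
  he := by
    haveI : IsIso (Nil.img iY (⊤ : X.Opens)).ι := isIso_ι_of_forall fun z => by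
      obtain ⟨z, rfl⟩ := iY.surjective z
      exact (Nil.apply_mem_img iY).2 trivial
    exact IsPullback.of_iso hj (asIso (Nil.img iY (⊤ : X.Opens)).ι).symm (Iso.refl _) (Iso.refl _) (Iso.refl _)
      (by simp) (by simp) (by simp) (by simp)
  comp := by rw [← Category.assoc, uMap_ι, Category.assoc]

variable {O O₁ O₂ : X.Opens}

/-- The bottom deformation inside a lift. -/
theorem spec_redY (P : Piece π ρ x f iY O) {V : X.Opens} (hV : IsAffineOpen V) (hle : V ≤ O) :
    Spec.map (P.redY' hle) ≫ (P.isAffineOpen_opn hV hle).fromSpec =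
      IsOpenImmersion.lift (Nil.img iY O).ι (Nil.isAffineOpen_img iY hV).fromSpec
        (by rw [IsAffineOpen.range_fromSpec, Scheme.Opens.range_ι]; exact Nil.img_mono iY hle) ≫ P.eY := by
  have hB : IsAffineOpen ((Nil.img iY O).ι ⁻¹ᵁ Nil.img iY V) :=
    (Nil.isAffineOpen_img iY hV).preimage_of_isOpenImmersion _
      (by rw [Scheme.Opens.opensRange_ι]; exact Nil.img_mono iY hle)
  rw [Piece.redY', Spec.map_comp, Category.assoc,
    IsAffineOpen.SpecMap_appLE_fromSpec P.eY (P.isAffineOpen_opn hV hle) hB, ← Category.assoc]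
  congr 1
  rw [← cancel_mono (Nil.img iY O).ι, IsOpenImmersion.lift_fac, Category.assoc,
    ← IsAffineOpen.SpecMap_appLE_fromSpec (Nil.img iY O).ι (Nil.isAffineOpen_img iY hV) hB le_rfl, ← Category.assoc,
    ← Spec.map_comp]
  rw [show (Nil.img iY O).ι.appLE (Nil.img iY V) ((Nil.img iY O).ι ⁻¹ᵁ Nil.img iY V) le_rfl ≫
      Y.presheaf.map (homOfLE (Piece.le_imageY hle)).op = 𝟙 _ by
    rw [Scheme.Opens.ι_appLE]; erw [← Functor.map_comp]; exact Y.presheaf.map_id _]
  rw [Spec.map_id, Category.id_comp]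

lemma fromSpec_p (P : Piece π ρ x f iY O) {V : X.Opens} (hV : IsAffineOpen V) (hle : V ≤ O) :
    (P.isAffineOpen_opn hV hle).fromSpec ≫ P.p = spec (P.α V) := by
  rw [← IsAffineOpen.SpecMap_appLE_fromSpec P.p (isAffineOpen_top _) (P.isAffineOpen_opn hV hle) le_top,
    IsAffineOpen.fromSpec_top, Scheme.isoSpec_Spec_inv, ← Spec.map_comp]
  rfl

/-- Compatible comparisons over an affine cover glue to a morphism. -/
theorem exists_mor (P : Piece π ρ x f iY O₁) (Q : Piece π ρ x f iY O₂) (hO₁ : O₁ = ⊤) (hO₂ : O₂ = ⊤) {κ : Type u}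
    (W : κ → X.Opens) (hW : ∀ a, IsAffineOpen (W a)) (h2 : ∀ a b, IsAffineOpen (W a ⊓ W b)) (hcov : iSup W = ⊤)
    (τ : ∀ a, Q.R (W a) →+* P.R (W a)) (hP : ∀ a, W a ≤ O₁) (hQ : ∀ a, W a ≤ O₂)
    (hτ : ∀ a, Comp P Q (hP a) (hQ a) (τ a))
    (hcompat : ∀ a b, ∃ σ : Q.R (W a ⊓ W b) →+* P.R (W a ⊓ W b),
      σ.comp (Q.rres inf_le_left) = (P.rres inf_le_left).comp (τ a) ∧
        σ.comp (Q.rres inf_le_right) = (P.rres inf_le_right).comp (τ b)) :
    ∃ g : P.Z ⟶ Q.Z,
      (∀ a, (P.isAffineOpen_opn (hW a) (hP a)).fromSpec ≫ g = spec (τ a) ≫ (Q.isAffineOpen_opn (hW a) (hQ a)).fromSpec) ∧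
      g ≫ Q.p = P.p ∧
      ∀ a, Spec.map (P.redY' (hP a)) ≫ (P.isAffineOpen_opn (hW a) (hP a)).fromSpec ≫ g =
        Spec.map (Q.redY' (hQ a)) ≫ (Q.isAffineOpen_opn (hW a) (hQ a)).fromSpec := by
  let fP := fun a => (P.isAffineOpen_opn (hW a) (hP a)).fromSpec
  let fQ := fun a => (Q.isAffineOpen_opn (hW a) (hQ a)).fromSpec
  let 𝒰 : P.Z.OpenCover := Scheme.Cover.mkOfCovers κ (fun a => Spec (P.R (W a))) fP (fun z => by
    obtain ⟨y, rfl⟩ := P.c.surjective z
    obtain ⟨a, ha⟩ := Opens.mem_iSup.1 (hcov.ge (Opens.mem_top y.1))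
    obtain ⟨w, hw⟩ := (P.isAffineOpen_opn (hW a) (hP a)).range_fromSpec.ge
      ((Nil.apply_mem_img P.c (U := O₁.ι ⁻¹ᵁ W a) (y := y)).2 ha)
    exact ⟨a, w, hw⟩) (fun a => inferInstance)
  have hcomp : ∀ a b, pullback.fst (fP a) (fP b) ≫ spec (τ a) ≫ fQ a = pullback.snd (fP a) (fP b) ≫ spec (τ b) ≫ fQ b := by
    intro a b
    obtain ⟨σ, hσa, hσb⟩ := hcompat a b
    have hPab := P.isAffineOpen_opn (h2 a b) (inf_le_left.trans (hP a))
    let l := IsOpenImmersion.lift hPab.fromSpec (pullback.fst (fP a) (fP b) ≫ fP a) (by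
      rintro _ ⟨z, rfl⟩
      rw [IsAffineOpen.range_fromSpec]
      refine ⟨?_, ?_⟩
      · exact (P.isAffineOpen_opn (hW a) (hP a)).range_fromSpec.le ⟨_, rfl⟩
      · rw [pullback.condition]
        exact (P.isAffineOpen_opn (hW b) (hP b)).range_fromSpec.le ⟨_, rfl⟩)
    have e1 : pullback.fst (fP a) (fP b) = l ≫ spec (P.rres inf_le_left) := by
      rw [← cancel_mono (fP a), Category.assoc, spec_rres P (hW a) (hP a) inf_le_left (h2 a b)]
      exact (IsOpenImmersion.lift_fac _ _ _).symm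
    have e2 : pullback.snd (fP a) (fP b) = l ≫ spec (P.rres inf_le_right) := by
      rw [← cancel_mono (fP b), Category.assoc, spec_rres P (hW b) (hP b) inf_le_right (h2 a b)]
      exact pullback.condition.symm.trans (IsOpenImmersion.lift_fac _ _ _).symm
    rw [e1, e2, Category.assoc, Category.assoc]
    refine congrArg (l ≫ ·) ?_
    rw [← Spec.map_comp_assoc, ← Spec.map_comp_assoc, ← CommRingCat.ofHom_comp, ← CommRingCat.ofHom_comp,
      ← hσa, ← hσb, CommRingCat.ofHom_comp, CommRingCat.ofHom_comp, Spec.map_comp_assoc, Spec.map_comp_assoc,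
      spec_rres Q (hW a) (hQ a) inf_le_left (h2 a b), spec_rres Q (hW b) (hQ b) inf_le_right (h2 a b)]
  let g := 𝒰.glueMorphisms (fun a => spec (τ a) ≫ fQ a) hcomp
  have hg : ∀ a, fP a ≫ g = spec (τ a) ≫ fQ a := fun a => 𝒰.ι_glueMorphisms _ _ a
  refine ⟨g, hg, 𝒰.hom_ext _ _ fun a => ?_, fun a => ?_⟩
  · show fP a ≫ g ≫ Q.p = fP a ≫ P.p
    rw [← Category.assoc, hg, Category.assoc, fromSpec_p Q (hW a) (hQ a), fromSpec_p P (hW a) (hP a),
      ← Spec.map_comp, ← CommRingCat.ofHom_comp, (hτ a).hα]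
  · erw [hg a]
    rw [← Category.assoc, ← Spec.map_comp]
    exact congrArg (fun φ => Spec.map φ ≫ fQ a) (CommRingCat.hom_ext (hτ a).hY)

/-- The bottom deformation in an affine chart of a global lift. -/
lemma spec_redY_global (hπ : Function.Surjective π) (hnil : RingHom.ker π ≤ nilradical A')
    (hY : IsPullback iY x f (spec ρ)) {Z : Scheme.{u}} (p : Z ⟶ Spec (CommRingCat.of A')) [Flat p] (j : Y ⟶ Z)
    (hj : IsPullback j f p (spec π)) {V : X.Opens} (hV : IsAffineOpen V) :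
    Spec.map ((globalPiece hπ hnil hY p j hj).redY' (le_top : V ≤ ⊤)) ≫
      ((globalPiece hπ hnil hY p j hj).isAffineOpen_opn hV le_top).fromSpec =
      (Nil.isAffineOpen_img iY hV).fromSpec ≫ j := by
  rw [spec_redY _ hV le_top]
  exact IsOpenImmersion.lift_fac_assoc _ _ _ _

end Groth.Agent.Lib.SmallLift
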