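import Groth.Agent.Lib.SmallLift.Lift
import Groth.Agent.Lib.Cech.Criterion
import Groth.Agent.Lib.ZarCoh.Compare

/-!
# `H¹` from Cech cocycles on affine covers
-/

noncomputable section

universe u

open CategoryTheory CategoryTheory.Limits AlgebraicGeometry TopologicalSpace Opposite
open Groth.Agent.Lib.Cech.Complex Groth.Agent.Lib.Cech.Sections Groth.Agent.Lib.Cech.Acyclic

namespace Groth.Agent.Lib.SmallLift

theorem subsingleton_H1_of_cocycles {X : Scheme.{u}} (F : CohTop.Ab X.toTopCat)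
    (h : ∀ (ι : Type u) (U : ι → X.Opens), (∀ i, IsAffineOpen (U i)) → iSup U = ⊤ → ExactSucc U F.obj 0) :
    Subsingleton (CohTop.H F 1) := by
  have hS := cokerSeq_shortExact (Injective.ι F)
  haveI : Injective (cokerSeq (Injective.ι F)).X₂ := inferInstanceAs (Injective (Injective.under F))
  haveI : Subsingleton (CohTop.HU F 1 (⊤ : Opens X.toTopCat)) :=
    subsingleton_HU_one hS ⊤ (Cech.Criterion.app_surjective_of_exactSucc hS ⊤ fun V hV => by
      have hex : ∀ y : X, ∃ W : X.Opens, IsAffineOpen W ∧ y ∈ W ∧ W ≤ V ⟨y, trivial⟩ := fun y => by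
        obtain ⟨_, ⟨W, hW, rfl⟩, hyW, hWV⟩ :=
          X.isBasis_affineOpens.exists_subset_of_mem_open (hV ⟨y, trivial⟩) (V ⟨y, trivial⟩).isOpen
        exact ⟨W, hW, hyW, hWV⟩
      choose W affW hyW hWV using hex
      have hcov : iSup W = ⊤ := eq_top_iff.2 fun y _ => Opens.mem_iSup.2 ⟨y, hyW y⟩
      exact ⟨X, W, hcov, fun y => ⟨⟨y, trivial⟩, hWV y⟩, h X W affW hcov⟩)
  exact @Equiv.subsingleton _ _ (Lib.ZarCoh.Compare.hTop F 1).toEquiv ‹_›

variable {k : Type u} [Field k] {X : Scheme.{u}} {x : X ⟶ Spec (CommRingCat.of k)}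

theorem subsingleton_H1 [QuasiSeparated x] [Smooth x] [HasExt.{u} X.Modules]
    (h1 : Subsingleton (Abelian.Ext.{u} (Omega.sheaf x) (Coh.structureModule X) 1)) :
    Subsingleton (CohTop.H (Tan x) 1) := by
  refine SqZeroLift.ExtVanish.subsingleton_HH_homSh (SqZeroLift.ExtVanish.isFinLocFree_gΩ x (𝟙 X)) _ 1 ?_
  let e : SqZeroLift.DerHom.gΩ x (𝟙 X) ≅ Omega.sheaf x := (Scheme.Modules.pullbackId X).app (Omega.sheaf x)
  refine ⟨fun a b => ?_⟩
  have key : ∀ c : Abelian.Ext.{u} (SqZeroLift.DerHom.gΩ x (𝟙 X)) (Coh.structureModule X) 1,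
      (Abelian.Ext.mk₀ e.hom).comp ((Abelian.Ext.mk₀ e.inv).comp c (zero_add 1)) (zero_add 1) = c := fun c => by
    rw [Abelian.Ext.mk₀_comp_mk₀_assoc, e.hom_inv_id, Abelian.Ext.mk₀_id_comp]
  rw [← key a, ← key b, h1.elim ((Abelian.Ext.mk₀ e.inv).comp a (zero_add 1)) ((Abelian.Ext.mk₀ e.inv).comp b (zero_add 1))]

theorem subsingleton_ext1 [QuasiSeparated x] [Smooth x] [HasExt.{u} X.Modules]
    (h1 : Subsingleton (CohTop.H (Tan x) 1)) :
    Subsingleton (Abelian.Ext.{u} (Omega.sheaf x) (Coh.structureModule X) 1) := by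
  letI : X.Over (Spec (CommRingCat.of Γ(X, ⊤))) := ⟨X.toSpecΓ⟩
  haveI := SqZeroLift.ExtVanish.hasSheafHom' (SqZeroLift.DerHom.gΩ x (𝟙 X))
  obtain ⟨e⟩ := Groth.Agent.H18.Sec.HomIso.nonempty_iso (SqZeroLift.DerHom.gΩ x (𝟙 X)) (Coh.structureModule X)
  have h2 := SqZeroLift.Criteria.subsingleton_HH_of_iso e.symm (n := 1) h1
  haveI h3 : Subsingleton (Abelian.Ext.{u} (SqZeroLift.DerHom.gΩ x (𝟙 X)) (Coh.structureModule X) 1) :=
    @Equiv.subsingleton _ _ (ExtHH.SheafHom.extLinearEquiv Γ(X, ⊤)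
      (SqZeroLift.ExtVanish.isFinLocFree_gΩ x (𝟙 X)) (Coh.structureModule X) 1).toEquiv h2
  let e' : SqZeroLift.DerHom.gΩ x (𝟙 X) ≅ Omega.sheaf x := (Scheme.Modules.pullbackId X).app (Omega.sheaf x)
  refine ⟨fun a b => ?_⟩
  have key : ∀ c : Abelian.Ext.{u} (Omega.sheaf x) (Coh.structureModule X) 1,
      (Abelian.Ext.mk₀ e'.inv).comp ((Abelian.Ext.mk₀ e'.hom).comp c (zero_add 1)) (zero_add 1) = c := fun c => by
    rw [Abelian.Ext.mk₀_comp_mk₀_assoc, e'.inv_hom_id, Abelian.Ext.mk₀_id_comp]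
  rw [← key a, ← key b, h3.elim ((Abelian.Ext.mk₀ e'.hom).comp a (zero_add 1)) ((Abelian.Ext.mk₀ e'.hom).comp b (zero_add 1))]

end Groth.Agent.Lib.SmallLift
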