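import Groth.Agent.Lib.SmallLift.Global
import Groth.Agent.Lib.SmallLift.H1

/-!
# Two lifts of a smooth deformation are isomorphic when `H¹(T) = 0`
-/

noncomputable section

universe u

open CategoryTheory CategoryTheory.Limits AlgebraicGeometry TopologicalSpace Opposite
open Groth.Agent.Lib.Cech.Complex

namespace Groth.Agent.Lib.SmallLift

open Alg

variable {A' A k : Type u} [CommRing A'] [CommRing A] [Field k] {π : A' →+* A} {ρ : A →+* k}
  {X Y : Scheme.{u}} {x : X ⟶ Spec (CommRingCat.of k)} {f : Y ⟶ Spec (CommRingCat.of A)}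
  {iY : X ⟶ Y} [IsClosedImmersion iY] [Surjective iY] {m : ℕ} {t : Fin m → A'} (h : Small π ρ t)

section pieces

variable {O₁ O₂ : X.Opens} (P : Piece π ρ x f iY O₁) (Q : Piece π ρ x f iY O₂) (hO₁ : O₁ = ⊤) (hO₂ : O₂ = ⊤)

include hO₁ in
lemma le_of_top (V : X.Opens) : V ≤ O₁ := hO₁ ▸ le_top

omit [IsClosedImmersion iY] [Surjective iY] in
lemma inter_two {κ : Type u} (W : κ → X.Opens) (a : Fin 2 → κ) : inter W a = W (a 0) ⊓ W (a 1) :=
  le_antisymm (le_inf (inter_le W a 0) (inter_le W a 1)) (le_iInf fun e => by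
    fin_cases e
    · exact inf_le_left
    · exact inf_le_right)

variable {κ : Type u} (W : κ → X.Opens) (hW : ∀ a, IsAffineOpen (W a))
  (hi : ∀ a : Fin 2 → κ, IsAffineOpen (inter W a)) (hP : ∀ V : X.Opens, V ≤ O₁) (hQ : ∀ V : X.Opens, V ≤ O₂)
  (θ : ∀ a, Q.R (W a) →+* P.R (W a)) (hθ : ∀ a, Comp P Q (hP (W a)) (hQ (W a)) (θ a))

/-- A comparison restricted to a smaller affine open. -/
lemma comp_rst (a : κ) {V : X.Opens} (hV : IsAffineOpen V) (ha : V ≤ W a) :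
    Comp P Q (hP V) (hQ V) (cres h (hθ a) (hW a) ha hV) := comp_cres h (hW a) (hθ a) ha hV

/-- The difference cochain of a family of comparisons. -/
def diffC [QuasiSeparated x] (i : Fin m) : Cochain W (Tan x).obj 1 := fun a =>
  ((ddFam h (hi a) (comp_rst h P Q W hW hP hQ θ hθ (a 0) (hi a) (inter_le W a 0))
      (comp_rst h P Q W hW hP hQ θ hθ (a 1) (hi a) (inter_le W a 1)) i).sec :
    Γ(RefHull.homSh (SqZeroLift.DerHom.gΩ x (𝟙 X)) (Coh.structureModule X), inter W a))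

lemma evT_diffC [QuasiSeparated x] (i : Fin m) (a : Fin 2 → κ) {V : X.Opens} (hV : IsAffineOpen V)
    (hl : V ≤ inter W a) (y : X) (hy : y ∈ V) (z : Γ(X, V)) :
    evT V y hy (hl hy) z (diffC h P Q W hW hi hP hQ θ hθ i a) = germO V y hy
      (dd h hV (comp_rst h P Q W hW hP hQ θ hθ (a 0) hV (hl.trans (inter_le W a 0)))
        (comp_rst h P Q W hW hP hQ θ hθ (a 1) hV (hl.trans (inter_le W a 1))) i z) := by
  refine (evT_sec _ hV hl y hy _ z).trans (congrArg (germO V y hy) ?_)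
  have e := dd_congr h hV (comp_cres h (hi a) (comp_rst h P Q W hW hP hQ θ hθ (a 0) (hi a) (inter_le W a 0)) hl hV)
    (comp_cres h (hi a) (comp_rst h P Q W hW hP hQ θ hθ (a 1) (hi a) (inter_le W a 1)) hl hV)
    (comp_rst h P Q W hW hP hQ θ hθ (a 0) hV (hl.trans (inter_le W a 0)))
    (comp_rst h P Q W hW hP hQ θ hθ (a 1) hV (hl.trans (inter_le W a 1)))
    (cres_cres h (hW (a 0)) (hθ (a 0)) _ (hi a) hl hV) (cres_cres h (hW (a 1)) (hθ (a 1)) _ (hi a) hl hV)
  exact congrFun (congrFun e i) z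

theorem dC_diffC [QuasiSeparated x] (i : Fin m) : dC W (Tan x).obj 1 (diffC h P Q W hW hi hP hQ θ hθ i) = 0 := by
  funext a
  refine evT_ext fun V hV hl y hy hU z => ?_
  have hl' : ∀ e, V ≤ W (a e) := fun e => hl.trans (inter_le W a e)
  rw [dC_apply, Fin.sum_univ_three]
  simp only [Fin.val_zero, pow_zero, one_smul, Fin.val_one, pow_one, neg_smul, Fin.val_two,
    neg_one_sq, map_add, map_neg, evT_res]
  rw [evT_diffC h P Q W hW hi hP hQ θ hθ i _ hV (hl.trans (inter_le_face W a 0)) y hy z,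
    evT_diffC h P Q W hW hi hP hQ θ hθ i _ hV (hl.trans (inter_le_face W a 1)) y hy z,
    evT_diffC h P Q W hW hi hP hQ θ hθ i _ hV (hl.trans (inter_le_face W a 2)) y hy z]
  refine Eq.trans ?_ (map_zero (evT V y hy hU z)).symm
  rw [← map_neg, ← map_add, ← map_add]
  refine (congrArg _ ?_).trans (map_zero (germO V y hy))
  have e := congrFun (congrFun (dd_add h hV (comp_rst h P Q W hW hP hQ θ hθ (a 0) hV (hl' 0))
    (comp_rst h P Q W hW hP hQ θ hθ (a 1) hV (hl' 1)) (comp_rst h P Q W hW hP hQ θ hθ (a 2) hV (hl' 2))) i) z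
  simp only [Pi.add_apply] at e
  show dd h hV (comp_rst h P Q W hW hP hQ θ hθ (a 1) hV (hl' 1)) (comp_rst h P Q W hW hP hQ θ hθ (a 2) hV (hl' 2)) i z +
    -dd h hV (comp_rst h P Q W hW hP hQ θ hθ (a 0) hV (hl' 0)) (comp_rst h P Q W hW hP hQ θ hθ (a 2) hV (hl' 2)) i z +
    dd h hV (comp_rst h P Q W hW hP hQ θ hθ (a 0) hV (hl' 0)) (comp_rst h P Q W hW hP hQ θ hθ (a 1) hV (hl' 1)) i z = 0
  linear_combination -e

/-- Restrictions of a shifted comparison. -/
theorem cres_shift {U V : X.Opens} (hU : IsAffineOpen U) (hV : IsAffineOpen V) (ha : V ≤ U) {hP' : U ≤ O₁} {hQ' : U ≤ O₂}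
    {ψ φ : Q.R U →+* P.R U} (hψ : Comp P Q hP' hQ' ψ) (hφ : Comp P Q hP' hQ' φ)
    {φ' : Q.R V →+* P.R V} (hφ' : Comp P Q (ha.trans hP') (ha.trans hQ') φ') (Φ : Fin m → Fam x U)
    (e : dd h hU hψ hφ = fun i => (Φ i).D U hU le_rfl)
    (e' : dd h hV (comp_cres h hU hψ ha hV) hφ' = fun i => (Φ i).D V hV ha) :
    cres h hφ hU ha hV = φ' := by
  refine cres_unique h hU _ ha hV (RingHom.ext fun r => ?_)
  simp only [RingHom.comp_apply]
  have e1 := dd_eq h hV (comp_cres h hU hψ ha hV) hφ' (Q.rres ha r)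
  have e2 := dd_eq h hU hψ hφ r
  rw [e'] at e1
  rw [e] at e2
  have eT : cres h hψ hU ha hV (Q.rres ha r) = P.rres ha (ψ r) :=
    RingHom.congr_fun (cres_comp_rres h hU hψ ha hV) r
  have e3 := congrArg (P.rres ha) e2
  rw [map_sub, map_tsum h (P.fib (surj_ρπ h) hU hP') (P.fib (surj_ρπ h) hV (ha.trans hP')) (P.rres ha)
    (X.presheaf.map (homOfLE ha).op).hom (P.rres_α ha) (RingHom.ext (P.red0_rres ha hP'))] at e3
  simp only [← (Φ _).res U V hU hV _ ha, ← Q.red0_rres ha] at e3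
  have := e1.trans e3.symm
  rw [eT] at this
  exact sub_right_injective this

include h in
/-- Compatible comparisons exist. -/
theorem exists_compat [IsSeparated x] [Smooth x] (h1 : Subsingleton (CohTop.H (Tan x) 1))
    (hO₁ : O₁ = ⊤) (hO₂ : O₂ = ⊤) (hW : ∀ a, IsAffineOpen (W a)) (hcov : iSup W = ⊤) :
    ∃ τ : ∀ a, Q.R (W a) →+* P.R (W a), ∃ hτ : ∀ a, Comp P Q (le_of_top hO₁ (W a)) (le_of_top hO₂ (W a)) (τ a),
      ∀ a b (V : X.Opens) (hV : IsAffineOpen V) (ha : V ≤ W a) (hb : V ≤ W b),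
        cres h (hτ a) (hW a) ha hV = cres h (hτ b) (hW b) hb hV := by
  have hP : ∀ V, V ≤ O₁ := le_of_top hO₁
  have hQ : ∀ V, V ≤ O₂ := le_of_top hO₂
  have hi : ∀ a : Fin 2 → κ, IsAffineOpen (inter W a) := fun a => by
    rw [inter_two]; exact isAffineOpen_inf (x := x) (hW _) (hW _)
  choose θ hθ using fun a => exists_comp h P Q (hW a) (hP (W a)) (hQ (W a))
  choose s hs using fun i => Groth.Agent.H95.Torsor.exists_coboundary (X := X.toTopCat) (Tan x) h1 W hcov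
    (diffC h P Q W hW hi hP hQ θ hθ i) (dC_diffC h P Q W hW hi hP hQ θ hθ i)
  have hle1 : ∀ a, W a ≤ inter W fun _ : Fin 1 => a := fun a => le_iInf fun _ => le_rfl
  choose Φ hΦ using fun (i : Fin m) (a : κ) =>
    exists_fam (x := x) (W := W a)
      (show Γ(RefHull.homSh (SqZeroLift.DerHom.gΩ x (𝟙 X)) (Coh.structureModule X), W a) from
        -(Cech.Complex.res (Tan x).obj (hle1 a) (s i fun _ => a)))
  have hshift : ∀ a {V : X.Opens} (hV : IsAffineOpen V) (ha : V ≤ W a), ∃ φ, ∃ hφ : Comp P Q (hP V) (hQ V) φ,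
      dd h hV (comp_rst h P Q W hW hP hQ θ hθ a hV ha) hφ = fun i => (Φ i a).D V hV ha :=
    fun a V hV ha => exists_shift h hV _ _ fun i => ⟨(Φ i a).add _ _ _, (Φ i a).mul _ _ _, (Φ i a).base _ _ _⟩
  choose T hT hdd using @hshift
  refine ⟨fun a => T a (hW a) le_rfl, fun a => hT a (hW a) le_rfl, fun a b V hV ha hb => ?_⟩
  have hres : ∀ a (ha : V ≤ W a), cres h (hT a (hW a) le_rfl) (hW a) ha hV = T a hV ha := fun a ha => by
    refine cres_shift h P Q (hW a) hV ha (hθ a) (hT a (hW a) le_rfl) (hT a hV ha) (fun i => Φ i a) ?_ (hdd a hV ha)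
    rw [← hdd a (hW a) le_rfl]
    exact dd_congr h (hW a) _ _ _ _ (cres_self h (hW a) (hθ a) le_rfl).symm rfl
  rw [hres a ha, hres b hb]
  refine Comp.eq_of_dd h hV (hT a hV ha) (hT b hV hb) ?_
  funext i z
  have a1 := congrFun (congrFun (dd_add h hV (comp_rst h P Q W hW hP hQ θ hθ a hV ha) (hT a hV ha) (hT b hV hb)) i) z
  have a2 := congrFun (congrFun (dd_add h hV (comp_rst h P Q W hW hP hQ θ hθ a hV ha)
    (comp_rst h P Q W hW hP hQ θ hθ b hV hb) (hT b hV hb)) i) z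
  have hl : V ≤ inter W ![a, b] := by rw [inter_two]; exact le_inf ha hb
  have hsec : ∀ c (hc : V ≤ W c) y (hy : y ∈ V), germO V y hy ((Φ i c).D V hV hc z) =
      - evT V y hy (hle1 c (hc hy)) z (s i fun _ => c) := fun c hc y hy => by
    rw [← evT_sec (Φ i c) hV hc y hy (hc hy) z, hΦ i c]
    exact map_neg (evT V y hy (hc hy) z) (Cech.Complex.res (Tan x).obj (hle1 c) (s i fun _ => c))
  have key : dd h hV (comp_rst h P Q W hW hP hQ θ hθ a hV ha) (comp_rst h P Q W hW hP hQ θ hθ b hV hb) i z =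
      (Φ i a).D V hV ha z - (Φ i b).D V hV hb z := by
    refine germO_ext fun y hy => ?_
    have e := evT_diffC h P Q W hW hi hP hQ θ hθ i ![a, b] hV hl y hy z
    rw [show diffC h P Q W hW hi hP hQ θ hθ i ![a, b] = _ from (congr_fun (hs i) ![a, b]).symm, dC_apply,
      Fin.sum_univ_two] at e
    simp only [Fin.val_zero, pow_zero, one_smul, Fin.val_one, pow_one, neg_smul, map_add, map_neg, evT_res] at e
    refine Eq.trans e.symm ?_
    rw [map_sub, hsec a ha y hy, hsec b hb y hy, neg_sub_neg, ← sub_eq_add_neg]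
    have e0 : ∀ (q : Fin 1 → κ) (l : κ), q 0 = l → ∀ (h' : y ∈ inter W q) (h'' : y ∈ inter W fun _ : Fin 1 => l),
        evT V y hy h' z (s i q) = evT V y hy h'' z (s i fun _ => l) := by
      intro q l hql h' h''
      obtain rfl : q = fun _ => l := funext fun w => by rw [Subsingleton.elim w 0, hql]
      rfl
    refine congrArg₂ (fun u v => u - v) ?_ ?_
    · exact (evT_res (inter_le_face W ![a, b] (0 : Fin 2)) V y hy (hl hy) z (s i (![a, b] ∘ Fin.succAbove (0 : Fin 2)))).trans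
        (e0 (![a, b] ∘ Fin.succAbove (0 : Fin 2)) b rfl (inter_le_face W ![a, b] (0 : Fin 2) (hl hy)) (hle1 b (hb hy)))
    · exact (evT_res (inter_le_face W ![a, b] (1 : Fin 2)) V y hy (hl hy) z (s i (![a, b] ∘ Fin.succAbove (1 : Fin 2)))).trans
        (e0 (![a, b] ∘ Fin.succAbove (1 : Fin 2)) a rfl (inter_le_face W ![a, b] (1 : Fin 2) (hl hy)) (hle1 a (ha hy)))
  have h3 := congrFun (congrFun (hdd a hV ha) i) z
  have h4 := congrFun (congrFun (hdd b hV hb) i) z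
  simp only [Pi.add_apply, Pi.zero_apply] at a1 a2 ⊢
  linear_combination a2 - a1 + key - h3 + h4

end pieces

section pieces

variable {O₁ O₂ : X.Opens} (P : Piece π ρ x f iY O₁) (Q : Piece π ρ x f iY O₂) (hO₁ : O₁ = ⊤) (hO₂ : O₂ = ⊤)

include h in
/-- Global lifts are isomorphic. -/
theorem exists_iso_pieces [IsSeparated x] [Smooth x] (h1 : Subsingleton (CohTop.H (Tan x) 1)) :
    ∃ e : P.Z ≅ Q.Z, e.hom ≫ Q.p = P.p ∧ ∀ (V : X.Opens) (hV : IsAffineOpen V),
      Spec.map (P.redY' (le_of_top hO₁ V)) ≫ (P.isAffineOpen_opn hV (le_of_top hO₁ V)).fromSpec ≫ e.hom =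
        Spec.map (Q.redY' (le_of_top hO₂ V)) ≫ (Q.isAffineOpen_opn hV (le_of_top hO₂ V)).fromSpec := by
  let κ := {V : X.Opens // IsAffineOpen V}
  let W : κ → X.Opens := fun a => a.1
  have hW : ∀ a : κ, IsAffineOpen (W a) := fun a => a.2
  have hcov : iSup W = ⊤ := eq_top_iff.2 fun y _ => by
    obtain ⟨_, ⟨V, hV, rfl⟩, hyV, -⟩ := X.isBasis_affineOpens.exists_subset_of_mem_open (Set.mem_univ y) isOpen_univ
    exact Opens.mem_iSup.2 ⟨⟨V, hV⟩, hyV⟩
  have h2 : ∀ a b, IsAffineOpen (W a ⊓ W b) := fun a b => isAffineOpen_inf (x := x) (hW a) (hW b)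
  have hP : ∀ V, V ≤ O₁ := le_of_top hO₁
  have hQ : ∀ V, V ≤ O₂ := le_of_top hO₂
  obtain ⟨τ, hτ, hτc⟩ := exists_compat h P Q W h1 hO₁ hO₂ hW hcov
  have hbij : ∀ a, Function.Bijective (τ a) := fun a => by
    obtain ⟨φ, hφ⟩ := exists_comp h Q P (hW a) (hQ _) (hP _)
    have b1 := bijective_of_congr h (Q.fib (surj_ρπ h) (hW a) (hQ _)) (φ.comp (τ a)) (hφ.comp (hτ a)).hα
      ((hφ.comp (hτ a)).congr_ker h.surj (hW a) (Comp.refl Q (hQ _)))
    have b2 := bijective_of_congr h (P.fib (surj_ρπ h) (hW a) (hP _)) ((τ a).comp φ) ((hτ a).comp hφ).hα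
      (((hτ a).comp hφ).congr_ker h.surj (hW a) (Comp.refl P (hP _)))
    exact ⟨fun u v e => b1.1 (congrArg φ e), fun u => (b2.2 u).elim fun w hw => ⟨φ w, hw⟩⟩
  let σ : ∀ a, P.R (W a) →+* Q.R (W a) := fun a => ((RingEquiv.ofBijective (τ a) (hbij a)).symm : P.R (W a) ≃+* Q.R (W a)).toRingHom
  have hσ : ∀ a r, σ a (τ a r) = r := fun a r => (RingEquiv.ofBijective (τ a) (hbij a)).symm_apply_apply r
  have hσ' : ∀ a r, τ a (σ a r) = r := fun a r => (RingEquiv.ofBijective (τ a) (hbij a)).apply_symm_apply r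
  have hσc : ∀ a, Comp Q P (hQ _) (hP _) (σ a) := fun a =>
    ⟨RingHom.ext fun r => by
      show σ a (P.α (W a) r) = Q.α (W a) r
      rw [← show τ a (Q.α (W a) r) = P.α (W a) r from RingHom.congr_fun (hτ a).hα r, hσ],
     RingHom.ext fun r => by
      show Q.redY (hQ _) (σ a r) = P.redY (hP _) r
      rw [← show P.redY (hP _) (τ a (σ a r)) = Q.redY (hQ _) (σ a r) from RingHom.congr_fun (hτ a).hY _, hσ']⟩
  have hτcompat : ∀ a b, ∃ θ : Q.R (W a ⊓ W b) →+* P.R (W a ⊓ W b),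
      θ.comp (Q.rres inf_le_left) = (P.rres inf_le_left).comp (τ a) ∧
        θ.comp (Q.rres inf_le_right) = (P.rres inf_le_right).comp (τ b) := fun a b =>
    ⟨cres h (hτ a) (hW a) inf_le_left (h2 a b), cres_comp_rres h _ _ _ _, by
      rw [hτc a b _ (h2 a b) inf_le_left inf_le_right]; exact cres_comp_rres h _ _ _ _⟩
  have hσcompat : ∀ a b, ∃ θ : P.R (W a ⊓ W b) →+* Q.R (W a ⊓ W b),
      θ.comp (P.rres inf_le_left) = (Q.rres inf_le_left).comp (σ a) ∧
        θ.comp (P.rres inf_le_right) = (Q.rres inf_le_right).comp (σ b) := fun a b => by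
    refine ⟨cres h (hσc a) (hW a) inf_le_left (h2 a b), cres_comp_rres h _ _ _ _, ?_⟩
    have e1 : (cres h (hσc a) (hW a) inf_le_left (h2 a b)).comp (cres h (hτ a) (hW a) inf_le_left (h2 a b)) = RingHom.id _ := by
      rw [← cres_comp h (hW a) (hσc a) (hτ a)]
      refine cres_unique h (hW a) ((hσc a).comp (hτ a)) inf_le_left (h2 a b) (RingHom.ext fun r => ?_)
      show Q.rres (inf_le_left : W a ⊓ W b ≤ W a) r = Q.rres (inf_le_left : W a ⊓ W b ≤ W a) (σ a (τ a r))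
      rw [hσ]
    rw [hτc a b _ (h2 a b) inf_le_left inf_le_right] at e1
    refine RingHom.ext fun r => ?_
    show cres h (hσc a) (hW a) inf_le_left (h2 a b) (P.rres inf_le_right r) = Q.rres inf_le_right (σ b r)
    conv_lhs => rw [← hσ' b r]
    rw [← RingHom.comp_apply (P.rres _) (τ b), ← cres_comp_rres h (hW b) (hτ b) inf_le_right (h2 a b)]
    exact RingHom.congr_fun e1 _
  obtain ⟨g, hg, hgp, hgY⟩ := exists_mor P Q hO₁ hO₂ W hW h2 hcov τ (fun a => hP _) (fun a => hQ _) hτ hτcompat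
  obtain ⟨g', hg', -, -⟩ := exists_mor Q P hO₂ hO₁ W hW h2 hcov σ (fun a => hQ _) (fun a => hP _) hσc hσcompat
  have hmk : ∀ {O : X.Opens} (P : Piece π ρ x f iY O) (hO : O = ⊤) (φ ψ : P.Z ⟶ P.Z),
      (∀ a, (P.isAffineOpen_opn (hW a) (le_of_top hO _)).fromSpec ≫ φ =
        (P.isAffineOpen_opn (hW a) (le_of_top hO _)).fromSpec ≫ ψ) → φ = ψ := by
    intro O P hO φ ψ hh
    refine Scheme.Cover.hom_ext (Scheme.Cover.mkOfCovers κ (fun a => Spec (P.R (W a)))
      (fun a => (P.isAffineOpen_opn (hW a) (le_of_top hO _)).fromSpec) (fun z => ?_) (fun a => inferInstance) :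
        P.Z.OpenCover) _ _ hh
    obtain ⟨y, rfl⟩ := P.c.surjective z
    obtain ⟨a, ha⟩ := Opens.mem_iSup.1 (hcov.ge (Opens.mem_top y.1))
    obtain ⟨w, hw⟩ := (P.isAffineOpen_opn (hW a) (le_of_top hO _)).range_fromSpec.ge
      ((Nil.apply_mem_img P.c (U := O.ι ⁻¹ᵁ W a) (y := y)).2 ha)
    exact ⟨a, w, hw⟩
  refine ⟨⟨g, g', hmk P hO₁ _ _ fun a => ?_, hmk Q hO₂ _ _ fun a => ?_⟩, hgp, fun V hV => hgY ⟨V, hV⟩⟩
  · rw [← Category.assoc, hg a, Category.assoc, hg' a, ← Category.assoc, ← Spec.map_comp, ← CommRingCat.ofHom_comp,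
      show (τ a).comp (σ a) = RingHom.id _ from RingHom.ext (hσ' a), CommRingCat.ofHom_id, Spec.map_id]
    exact (Category.id_comp _).trans (Category.comp_id _).symm
  · rw [← Category.assoc, hg' a, Category.assoc, hg a, ← Category.assoc, ← Spec.map_comp, ← CommRingCat.ofHom_comp,
      show (σ a).comp (τ a) = RingHom.id _ from RingHom.ext (hσ a), CommRingCat.ofHom_id, Spec.map_id]
    exact (Category.id_comp _).trans (Category.comp_id _).symm

end pieces

omit [IsClosedImmersion iY] [Surjective iY] in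
/-- Two lifts of a smooth deformation are isomorphic if `Ext¹(Ω, O) = 0`. -/
theorem exists_iso (h : Small π ρ t) [IsSeparated x] [Smooth x] [HasExt.{u} X.Modules]
    (hY : IsPullback iY x f (spec ρ))
    (h1 : Subsingleton (Abelian.Ext.{u} (Omega.sheaf x) (Coh.structureModule X) 1))
    {Z₁ Z₂ : Scheme.{u}} (p₁ : Z₁ ⟶ Spec (CommRingCat.of A')) (p₂ : Z₂ ⟶ Spec (CommRingCat.of A')) [Flat p₁] [Flat p₂]
    (j₁ : Y ⟶ Z₁) (j₂ : Y ⟶ Z₂) (hj₁ : IsPullback j₁ f p₁ (spec π)) (hj₂ : IsPullback j₂ f p₂ (spec π)) :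
    ∃ e : Z₁ ≅ Z₂, e.hom ≫ p₂ = p₁ ∧ j₁ ≫ e.hom = j₂ := by
  haveI : IsClosedImmersion (spec ρ) := IsClosedImmersion.spec_of_surjective _ h.surj'
  haveI : Surjective (spec ρ) := surjective_spec ρ h.surj' (nilradical_ker h)
  haveI : IsClosedImmersion iY := MorphismProperty.of_isPullback hY.flip ‹IsClosedImmersion (spec ρ)›
  haveI : Surjective iY := MorphismProperty.of_isPullback hY.flip ‹Surjective (spec ρ)›
  have hn : RingHom.ker π ≤ nilradical A' := fun a ha => by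
    obtain ⟨n, hn⟩ := h.nil
    refine ⟨n, ?_⟩
    have := Ideal.pow_mem_pow (Alg.ker_le h ha) n
    rwa [show RingHom.ker (ρ.comp π) ^ n = 0 from hn] at this
  obtain ⟨e, hp, hY'⟩ := exists_iso_pieces h (globalPiece h.surj hn hY p₁ j₁ hj₁) (globalPiece h.surj hn hY p₂ j₂ hj₂)
    rfl rfl (subsingleton_H1 h1)
  refine ⟨e, hp, ?_⟩
  let 𝒰 : Y.OpenCover := Scheme.Cover.mkOfCovers {V : X.Opens // IsAffineOpen V}
    (fun a => Spec Γ(Y, Nil.img iY a.1)) (fun a => (Nil.isAffineOpen_img iY a.2).fromSpec) (fun y => by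
      obtain ⟨y, rfl⟩ := iY.surjective y
      obtain ⟨_, ⟨V, hV, rfl⟩, hyV, -⟩ := X.isBasis_affineOpens.exists_subset_of_mem_open (Set.mem_univ y) isOpen_univ
      obtain ⟨w, hw⟩ := (Nil.isAffineOpen_img iY hV).range_fromSpec.ge ((Nil.apply_mem_img iY).2 hyV)
      exact ⟨⟨V, hV⟩, w, hw⟩) (fun a => inferInstance)
  refine 𝒰.hom_ext _ _ fun a => ?_
  show (Nil.isAffineOpen_img iY a.2).fromSpec ≫ j₁ ≫ e.hom = (Nil.isAffineOpen_img iY a.2).fromSpec ≫ j₂
  rw [← Category.assoc, ← spec_redY_global h.surj hn hY p₁ j₁ hj₁ a.2, ← spec_redY_global h.surj hn hY p₂ j₂ hj₂ a.2]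
  exact (Category.assoc _ _ _).trans (hY' a.1 a.2)

end Groth.Agent.Lib.SmallLift
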