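import Groth.Agent.Lib.SmallLift.Torsor

/-!
# The class of a lift under a change of the small surjection
-/

noncomputable section

universe u

open CategoryTheory CategoryTheory.Limits AlgebraicGeometry TopologicalSpace Opposite
open Groth.Agent.Lib.Cech.Complex

namespace Groth.Agent.Lib.SmallLift

open Alg

variable {A' A'' A k : Type u} [CommRing A'] [CommRing A''] [CommRing A] [Field k] {π : A' →+* A} {π'' : A'' →+* A}
  {ρ : A →+* k} {X Y : Scheme.{u}} {x : X ⟶ Spec (CommRingCat.of k)} {f : Y ⟶ Spec (CommRingCat.of A)}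
  {iY : X ⟶ Y} [IsClosedImmersion iY] [Surjective iY] {O : X.Opens}

/-- A morphism of pieces over a morphism of the rings. -/
structure PMor (g : A' →+* A'') (P : Piece π ρ x f iY O) (P'' : Piece π'' ρ x f iY O) where
  /-- the morphism of total spaces -/
  u : P''.Z ⟶ P.Z
  hp : u ≫ P.p = P''.p ≫ spec g
  hc : P''.c ≫ u = P.c
  he : P''.eY ≫ u = P.eY

variable {g : A' →+* A''} {P Q : Piece π ρ x f iY O} {P'' Q'' : Piece π'' ρ x f iY O}
  (uP : PMor g P P'') (uQ : PMor g Q Q'')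

lemma PMor.le_opn (V : X.Opens) : P''.opn V ≤ uP.u ⁻¹ᵁ P.opn V := fun z hz => by
  obtain ⟨y, rfl⟩ := P''.c.surjective z
  show uP.u (P''.c y) ∈ P.opn V
  rw [show uP.u (P''.c y) = P.c y from congr($(uP.hc).base y)]
  exact (Nil.apply_mem_img P.c).2 ((Nil.apply_mem_img P''.c).1 hz)

/-- The induced map on functions. -/
def PMor.γ (V : X.Opens) : P.R V →+* P''.R V := (uP.u.appLE (P.opn V) (P''.opn V) (uP.le_opn V)).hom

lemma PMor.γ_rres {V V' : X.Opens} (h : V' ≤ V) : (uP.γ V').comp (P.rres h) = (P''.rres h).comp (uP.γ V) := by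
  refine RingHom.ext fun r => ?_
  simp only [RingHom.comp_apply, PMor.γ, Piece.rres, ← CommRingCat.comp_apply, Scheme.Hom.map_appLE,
    Scheme.Hom.appLE_map]

lemma PMor.spec_γ {V : X.Opens} (hV : IsAffineOpen V) (hle : V ≤ O) :
    spec (uP.γ V) ≫ (P.isAffineOpen_opn hV hle).fromSpec = (P''.isAffineOpen_opn hV hle).fromSpec ≫ uP.u :=
  IsAffineOpen.SpecMap_appLE_fromSpec uP.u (P.isAffineOpen_opn hV hle) (P''.isAffineOpen_opn hV hle) (uP.le_opn V)

lemma PMor.γ_α {V : X.Opens} (hV : IsAffineOpen V) (hle : V ≤ O) : (uP.γ V).comp (P.α V) = (P''.α V).comp g := by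
  have e : spec ((uP.γ V).comp (P.α V)) = spec ((P''.α V).comp g) := by
    simp only [spec, CommRingCat.ofHom_comp, Spec.map_comp]
    show spec (uP.γ V) ≫ spec (P.α V) = spec (P''.α V) ≫ spec g
    rw [← fromSpec_p P hV hle, ← fromSpec_p P'' hV hle, ← Category.assoc, uP.spec_γ hV hle, Category.assoc,
      Category.assoc, uP.hp]
  exact congrArg CommRingCat.Hom.hom (Spec.map_injective e)

lemma PMor.γ_redY {V : X.Opens} (hV : IsAffineOpen V) (hle : V ≤ O) :
    (P''.redY hle).comp (uP.γ V) = P.redY hle := by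
  have e : Spec.map (CommRingCat.ofHom ((P''.redY hle).comp (uP.γ V))) ≫ (P.isAffineOpen_opn hV hle).fromSpec =
      Spec.map (P.redY' hle) ≫ (P.isAffineOpen_opn hV hle).fromSpec := by
    rw [CommRingCat.ofHom_comp, Spec.map_comp, Category.assoc]
    refine (congrArg (_ ≫ ·) (uP.spec_γ hV hle)).trans ?_
    rw [← Category.assoc]
    refine (congrArg (· ≫ uP.u) (spec_redY P'' hV hle)).trans ?_
    rw [Category.assoc, uP.he, spec_redY P hV hle]
  exact congrArg CommRingCat.Hom.hom (Spec.map_injective ((cancel_mono _).1 e))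

lemma PMor.γ_red0 {V : X.Opens} (hV : IsAffineOpen V) (hle : V ≤ O) :
    (P''.red0 hle).comp (uP.γ V) = P.red0 hle := by
  rw [P''.red0_eq, P.red0_eq, RingHom.comp_assoc, uP.γ_redY hV hle]

variable {m m'' : ℕ} {t : Fin m → A'} {t'' : Fin m'' → A''} (h : Small π ρ t) (h'' : Small π'' ρ t'')
  (M : Fin m → Fin m'' → A'') (hM : ∀ i, g (t i) = ∑ j, M i j * t'' j)

include hM h h'' in
/-- The sum along `t` is carried to the sum along `t''`. -/
lemma PMor.γ_tsum {V : X.Opens} (hV : IsAffineOpen V) (hle : V ≤ O) (d : Fin m → Γ(X, V)) :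
    uP.γ V (tsum (P.fib (surj_ρπ h) hV hle) t d) =
      tsum (P''.fib (surj_ρπ h'') hV hle) t'' (fun j => ∑ i, cst x V (ρ (π'' (M i j))) * d i) := by
  choose s hs using fun i => (P.fib (surj_ρπ h) hV hle).surj (d i)
  rw [tsum_eq h (P.fib (surj_ρπ h) hV hle) hs,
    tsum_eq h'' (P''.fib (surj_ρπ h'') hV hle) (r := fun j => ∑ i, P''.α V (M i j) * uP.γ V (s i)) fun j => by
      rw [map_sum]
      refine Finset.sum_congr rfl fun i _ => ?_
      rw [map_mul, P''.red0_α hle, show P''.red0 hle (uP.γ V (s i)) = P.red0 hle (s i) from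
        RingHom.congr_fun (uP.γ_red0 hV hle) (s i), hs],
    map_sum]
  simp only [Finset.mul_sum]
  rw [Finset.sum_comm]
  refine Finset.sum_congr rfl fun i _ => ?_
  rw [map_mul, show uP.γ V (P.α V (t i)) = P''.α V (g (t i)) from RingHom.congr_fun (uP.γ_α hV hle) (t i), hM i,
    map_sum, Finset.sum_mul]
  refine Finset.sum_congr rfl fun j _ => ?_
  rw [map_mul]
  ring

include hM in
/-- Differences of comparisons commuting with the morphisms. -/
theorem dd_natural {V : X.Opens} (hV : IsAffineOpen V) {hle : V ≤ O} {θ θ' : Q.R V →+* P.R V}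
    {η η' : Q''.R V →+* P''.R V} (hθ : Comp P Q hle hle θ) (hθ' : Comp P Q hle hle θ')
    (hη : Comp P'' Q'' hle hle η) (hη' : Comp P'' Q'' hle hle η')
    (e : η.comp (uQ.γ V) = (uP.γ V).comp θ) (e' : η'.comp (uQ.γ V) = (uP.γ V).comp θ') (j : Fin m'') (z : Γ(X, V)) :
    dd h'' hV hη hη' j z = ∑ i, cst x V (ρ (π'' (M i j))) * dd h hV hθ hθ' i z := by
  obtain ⟨r, rfl⟩ := (Q.fib (surj_ρπ h) hV hle).surj z
  refine congrFun (tsum_injective h'' (P''.fib (surj_ρπ h'') hV hle)
    (a₁ := fun j => dd h'' hV hη hη' j (Q.red0 hle r))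
    (a₂ := fun j => ∑ i, cst x V (ρ (π'' (M i j))) * dd h hV hθ hθ' i (Q.red0 hle r)) ?_) j
  rw [← uP.γ_tsum h h'' M hM hV hle, ← dd_eq h hV hθ hθ' r, map_sub,
    ← RingHom.comp_apply (uP.γ V) θ, ← RingHom.comp_apply (uP.γ V) θ', ← e, ← e',
    RingHom.comp_apply, RingHom.comp_apply, dd_eq h'' hV hη hη' (uQ.γ V r),
    show Q''.red0 hle (uQ.γ V r) = Q.red0 hle r from RingHom.congr_fun (uQ.γ_red0 hV hle) r]

include h in
/-- Restrictions of comparisons commuting with the morphisms commute. -/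
theorem cres_natural {V V' : X.Opens} (hV : IsAffineOpen V) {hle : V ≤ O} {θ : Q.R V →+* P.R V}
    {η : Q''.R V →+* P''.R V} (hθ : Comp P Q hle hle θ) (hη : Comp P'' Q'' hle hle η)
    (e : η.comp (uQ.γ V) = (uP.γ V).comp θ) (hl : V' ≤ V) (hV' : IsAffineOpen V') :
    (cres h'' hη hV hl hV').comp (uQ.γ V') = (uP.γ V').comp (cres h hθ hV hl hV') := by
  refine rres_epi Q hV hle hl hV' ?_
  rw [RingHom.comp_assoc, uQ.γ_rres, ← RingHom.comp_assoc, cres_comp_rres, RingHom.comp_assoc, e,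
    ← RingHom.comp_assoc, ← uP.γ_rres, RingHom.comp_assoc, RingHom.comp_assoc, cres_comp_rres]

include h'' in
/-- A comparison over the new ring, when the morphism of the lift is a base change. -/
theorem exists_comp_natural (hQ : IsPullback uQ.u Q''.p Q.p (spec g)) {V : X.Opens} (hV : IsAffineOpen V) {hle : V ≤ O}
    {θ : Q.R V →+* P.R V} (hθ : Comp P Q hle hle θ) :
    ∃ η : Q''.R V →+* P''.R V, Comp P'' Q'' hle hle η ∧ η.comp (uQ.γ V) = (uP.γ V).comp θ := by
  let fS := (Q.isAffineOpen_opn hV hle).fromSpec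
  have hw : (spec ((uP.γ V).comp θ) ≫ fS) ≫ Q.p = spec (P''.α V) ≫ spec g := by
    rw [Category.assoc, fromSpec_p Q hV hle, ← Spec.map_comp, ← Spec.map_comp, ← CommRingCat.ofHom_comp,
      ← CommRingCat.ofHom_comp, RingHom.comp_assoc, hθ.hα, uP.γ_α hV hle]
  let G := hQ.lift (spec ((uP.γ V).comp θ) ≫ fS) (spec (P''.α V)) hw
  obtain ⟨η, hη, hG⟩ := exists_comp_of_mor h'' P'' Q'' hV hle hle G (hQ.lift_snd _ _ _) (by
    refine hQ.hom_ext ?_ ?_
    · rw [Category.assoc, hQ.lift_fst, Category.assoc, ← uQ.spec_γ hV hle, ← Category.assoc, ← Category.assoc]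
      refine congrArg (· ≫ fS) ?_
      rw [← Spec.map_comp]
      refine Eq.trans ?_ (Spec.map_comp _ _)
      refine congrArg Spec.map (CommRingCat.hom_ext ?_)
      show (P''.redY hle).comp ((uP.γ V).comp θ) = (Q''.redY hle).comp (uQ.γ V)
      rw [← RingHom.comp_assoc, uP.γ_redY hV hle, uQ.γ_redY hV hle, hθ.hY]
    · rw [Category.assoc, hQ.lift_snd, Category.assoc, fromSpec_p Q'' hV hle]
      rw [← Spec.map_comp]
      refine Eq.trans ?_ (Spec.map_comp _ _)
      exact congrArg Spec.map (CommRingCat.hom_ext (RingHom.ext fun a =>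
        (P''.redY_α hle a).trans (Q''.redY_α hle a).symm)))
  refine ⟨η, hη, ?_⟩
  have e : spec (η.comp (uQ.γ V)) ≫ fS = spec ((uP.γ V).comp θ) ≫ fS := by
    refine Eq.trans ?_ (hQ.lift_fst (spec ((uP.γ V).comp θ) ≫ fS) (spec (P''.α V)) hw)
    show _ = G ≫ uQ.u
    simp only [hG, spec, CommRingCat.ofHom_comp, Spec.map_comp, Category.assoc]
    exact congrArg (_ ≫ ·) (uQ.spec_γ hV hle)
  exact congrArg CommRingCat.Hom.hom (Spec.map_injective ((cancel_mono fS).1 e))

end Groth.Agent.Lib.SmallLift
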