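import Groth.Agent.Lib.SmallLift.Iso
import Groth.Agent.Lib.SmallLift.Tower
import Mathlib.Algebra.DualNumber
import Mathlib.RingTheory.DualNumber

/-!
# Rigidity and `H¹(T)`
-/

noncomputable section

universe u

open CategoryTheory CategoryTheory.Limits AlgebraicGeometry TopologicalSpace Opposite
open Groth.Agent.Lib.Cech.Complex

namespace Groth.Agent.Lib.SmallLift

open Alg

variable {k : Type u} [Field k] {X : Scheme.{u}} (x : X ⟶ Spec (CommRingCat.of k))

/-- The trivial deformation is a deformation. -/
theorem trivial_square {A Ā : Type u} [CommRing A] [CommRing Ā] [Algebra k A] [Algebra k Ā] (π : A →ₐ[k] Ā) :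
    ∃ u : pullback x (spec (algebraMap k Ā)) ⟶ pullback x (spec (algebraMap k A)),
      u ≫ pullback.fst _ _ = pullback.fst _ _ ∧
        IsPullback u (pullback.snd _ _) (pullback.snd _ _) (spec π.toRingHom) := by
  have e : spec π.toRingHom ≫ spec (algebraMap k A) = spec (algebraMap k Ā) := by
    rw [← Spec.map_comp, ← CommRingCat.ofHom_comp,
      show π.toRingHom.comp (algebraMap k A) = algebraMap k Ā from RingHom.ext π.commutes]
  refine ⟨pullback.lift (pullback.fst _ _) (pullback.snd _ _ ≫ spec π.toRingHom)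
    (by rw [Category.assoc, e, pullback.condition]), pullback.lift_fst _ _ _, ?_⟩
  refine IsPullback.of_right ?_ (pullback.lift_snd _ _ _) (IsPullback.of_hasPullback x (spec (algebraMap k A)))
  rw [pullback.lift_fst, e]
  exact IsPullback.of_hasPullback _ _

/-- A deformation is trivial when `Ext¹(Ω, O) = 0`. -/
theorem trivial_of_ext1 [IsSeparated x] [Smooth x] [HasExt.{u} X.Modules]
    (h1 : Subsingleton (Abelian.Ext.{u} (Omega.sheaf x) (Coh.structureModule X) 1)) (n : ℕ) :
    ∀ (A : Type u) [CommRing A] [Algebra k A] [IsLocalRing A] [IsArtinianRing A]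
      (_ : IsLocalRing.maximalIdeal A ^ (n + 1) = ⊥) (e : A →ₐ[k] k)
      (Y : Scheme.{u}) (f : Y ⟶ Spec (CommRingCat.of A)) (i : X ⟶ Y), Flat f →
      IsPullback i x f (spec e.toRingHom) →
      ∃ φ : Y ≅ pullback x (spec (algebraMap k A)),
        φ.hom ≫ pullback.snd _ _ = f ∧ i ≫ φ.hom ≫ pullback.fst _ _ = 𝟙 X := by
  induction n with
  | zero =>
    intro A _ _ _ _ hn e Y f i hf hY
    rw [zero_add, pow_one] at hn
    have hs : Function.Surjective e.toRingHom := fun c => ⟨algebraMap k A c, e.commutes c⟩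
    have hker : RingHom.ker e.toRingHom = ⊥ := by
      rw [eq_bot_iff, ← hn]
      exact IsLocalRing.le_maximalIdeal (RingHom.ker_ne_top _)
    haveI : IsIso (CommRingCat.ofHom e.toRingHom) :=
      (ConcreteCategory.isIso_iff_bijective _).2 ⟨(RingHom.injective_iff_ker_eq_bot _).2 hker, hs⟩
    haveI : IsIso (spec e.toRingHom) := inferInstanceAs (IsIso (Spec.map _))
    have he : spec e.toRingHom ≫ spec (algebraMap k A) = 𝟙 _ := by
      rw [← Spec.map_comp, ← CommRingCat.ofHom_comp,
        show e.toRingHom.comp (algebraMap k A) = RingHom.id k from RingHom.ext e.commutes,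
        CommRingCat.ofHom_id, Spec.map_id]
    haveI : IsIso (spec (algebraMap k A)) := by
      rw [show spec (algebraMap k A) = inv (spec e.toRingHom) from (IsIso.eq_inv_of_hom_inv_id he)]
      infer_instance
    haveI : IsIso i := MorphismProperty.of_isPullback (P := MorphismProperty.isomorphisms Scheme) hY.flip
      (inferInstanceAs (IsIso (spec e.toRingHom)))
    let F := pullback.fst x (spec (algebraMap k A))
    refine ⟨(asIso i).symm ≪≫ (asIso F).symm, ?_, ?_⟩
    · rw [← cancel_epi i]
      simp only [Iso.trans_hom, Iso.symm_hom, asIso_inv, Category.assoc, IsIso.hom_inv_id_assoc]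
      rw [← cancel_mono (spec (algebraMap k A)), Category.assoc, ← pullback.condition, IsIso.inv_hom_id_assoc,
        hY.w, Category.assoc, he, Category.comp_id]
    · simp [F]
  | succ n ih =>
    intro A _ _ _ _ hn e Y f i hf hY
    let I : Ideal A := IsLocalRing.maximalIdeal A ^ (n + 1)
    have hI : I ≠ ⊤ := fun hI => (IsLocalRing.maximalIdeal.isMaximal A).ne_top
      (eq_top_iff.2 (hI ▸ Ideal.pow_le_self (Nat.succ_ne_zero n)))
    haveI : Nontrivial (A ⧸ I) := Ideal.Quotient.nontrivial_iff.2 hI
    haveI : IsLocalRing (A ⧸ I) := IsLocalRing.of_surjective' _ Ideal.Quotient.mk_surjective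
    have hs : Function.Surjective e.toRingHom := fun c => ⟨algebraMap k A c, e.commutes c⟩
    have hker : RingHom.ker e.toRingHom = IsLocalRing.maximalIdeal A :=
      IsLocalRing.eq_maximalIdeal (RingHom.ker_isMaximal_of_surjective _ hs)
    let π : A →ₐ[k] A ⧸ I := Ideal.Quotient.mkₐ k I
    let eb : (A ⧸ I) →ₐ[k] k := Ideal.Quotient.liftₐ I e fun a ha => hker.ge (Ideal.pow_le_self (Nat.succ_ne_zero n) ha)
    have heb : eb.toRingHom.comp π.toRingHom = e.toRingHom := RingHom.ext fun a => rfl
    have hspec : spec eb.toRingHom ≫ spec π.toRingHom = spec e.toRingHom := by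
      rw [← Spec.map_comp, ← CommRingCat.ofHom_comp, heb]
    have hnb : IsLocalRing.maximalIdeal (A ⧸ I) ^ (n + 1) = ⊥ := by
      have hm : IsLocalRing.maximalIdeal (A ⧸ I) ≤ (IsLocalRing.maximalIdeal A).map (Ideal.Quotient.mk I) := fun a ha => by
        obtain ⟨a, rfl⟩ := Ideal.Quotient.mk_surjective a
        refine Ideal.mem_map_of_mem _ ?_
        rw [IsLocalRing.mem_maximalIdeal] at ha ⊢
        exact fun hu => ha (hu.map _)
      rw [eq_bot_iff]
      refine (Ideal.pow_right_mono hm _).trans ?_
      rw [← Ideal.map_pow, Ideal.map_quotient_self]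
    let Yb := pullback f (spec π.toRingHom)
    let ib : X ⟶ Yb := pullback.lift i (x ≫ spec eb.toRingHom) (by rw [Category.assoc, hspec, hY.w])
    have hib : IsPullback ib x (pullback.snd f (spec π.toRingHom)) (spec eb.toRingHom) :=
      IsPullback.of_right (by rw [pullback.lift_fst, hspec]; exact hY) (pullback.lift_snd _ _ _)
        (IsPullback.of_hasPullback f (spec π.toRingHom))
    haveI : Flat (pullback.snd f (spec π.toRingHom)) := inferInstance
    obtain ⟨φb, hφb, hib'⟩ := ih (A ⧸ I) hnb eb Yb _ ib inferInstance hib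
    obtain ⟨u, hu, husq⟩ := trivial_square x π
    have hj₂ : IsPullback (φb.hom ≫ u) (pullback.snd f (spec π.toRingHom)) (pullback.snd x (spec (algebraMap k A)))
        (spec π.toRingHom) := by
      have := (IsPullback.of_horiz_isIso (fst := φb.hom) (snd := pullback.snd f (spec π.toRingHom))
        (f := pullback.snd x (spec (algebraMap k (A ⧸ I)))) (g := 𝟙 _) ⟨by rw [hφb, Category.comp_id]⟩).paste_horiz husq
      rwa [Category.id_comp] at this
    obtain ⟨m, t, h⟩ := exists_small (π := π.toRingHom) (ρ := eb.toRingHom) Ideal.Quotient.mk_surjective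
      (fun c => ⟨algebraMap k (A ⧸ I) c, eb.commutes c⟩) (by rw [heb, hker]; exact ⟨n + 1 + 1, hn⟩)
      (by
        rw [heb, hker, show RingHom.ker π.toRingHom = I from Ideal.mk_ker, ← pow_succ']
        exact hn)
    obtain ⟨φ, hφ, hφj⟩ := exists_iso h hib h1 f (pullback.snd x (spec (algebraMap k A)))
      (pullback.fst f (spec π.toRingHom)) (φb.hom ≫ u) (IsPullback.of_hasPullback f (spec π.toRingHom)) hj₂
    refine ⟨φ, hφ, ?_⟩
    rw [show i = ib ≫ pullback.fst f (spec π.toRingHom) from (pullback.lift_fst _ _ _).symm, Category.assoc,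
      reassoc_of% hφj, hu]
    exact hib'

open scoped DualNumber

/-- The dual numbers as a small extension of `k`. -/
theorem small_dualNumber :
    Small (TrivSqZeroExt.fstHom k k k).toRingHom (RingHom.id k) (fun _ : Fin 1 => (DualNumber.eps : k[ε])) where
  surj c := ⟨TrivSqZeroExt.inl c, rfl⟩
  surj' := Function.surjective_id
  ker_eq := by
    rw [Set.range_const]
    refine le_antisymm (fun a ha => ?_) ?_
    · rw [Ideal.mem_span_singleton']
      refine ⟨TrivSqZeroExt.inl a.snd, TrivSqZeroExt.ext ?_ ?_⟩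
      · have ha' : a.fst = 0 := ha
        simp [ha']
      · simp
    · rw [Ideal.span_le, Set.singleton_subset_iff]
      exact TrivSqZeroExt.fst_inr k 1
  kill a ha _ := by
    have ha' : a.fst = 0 := ha
    refine TrivSqZeroExt.ext ?_ ?_ <;> simp [ha']
  indep c hc i := by
    rw [Fin.sum_univ_one] at hc
    rcases Fin.fin_one_eq_zero i with rfl
    have := congrArg TrivSqZeroExt.snd hc
    simpa using this
  nil := by
    refine ⟨2, ?_⟩
    rw [pow_two, Ideal.zero_eq_bot, ← le_bot_iff, Ideal.mul_le]
    intro a ha b hb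
    have ha' : a.fst = 0 := ha
    have hb' : b.fst = 0 := hb
    rw [Ideal.mem_bot]
    refine TrivSqZeroExt.ext ?_ ?_ <;> simp [ha', hb']

end Groth.Agent.Lib.SmallLift
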