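import Groth.Agent.Lib.SmallLift.Rigid
import Groth.Agent.Lib.SmallLift.Glue

/-!
# Rigid schemes have `H¹(T) = 0`
-/

noncomputable section

universe u

open CategoryTheory CategoryTheory.Limits AlgebraicGeometry TopologicalSpace Opposite
open Groth.Agent.Lib.Cech.Complex

namespace Groth.Agent.Lib.SmallLift

open Alg

open scoped DualNumber

variable {k : Type u} [Field k] {X : Scheme.{u}} (x : X ⟶ Spec (CommRingCat.of k)) [IsSeparated x] [Smooth x]

/-- The trivial deformation over the dual numbers. -/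
abbrev pd : pullback x (spec (algebraMap k k[ε])) ⟶ Spec (CommRingCat.of k[ε]) := pullback.snd _ _

/-- The inclusion into the trivial deformation. -/
def jd : X ⟶ pullback x (spec (algebraMap k k[ε])) :=
  pullback.lift (𝟙 X) (x ≫ spec (TrivSqZeroExt.fstHom k k k).toRingHom) (by
    rw [Category.id_comp, Category.assoc, ← Spec.map_comp, ← CommRingCat.ofHom_comp,
      show (TrivSqZeroExt.fstHom k k k).toRingHom.comp (algebraMap k k[ε]) = RingHom.id k from
        RingHom.ext (TrivSqZeroExt.fstHom k k k).commutes, CommRingCat.ofHom_id, Spec.map_id, Category.comp_id])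

omit [IsSeparated x] [Smooth x] in
theorem isPullback_jd : IsPullback (jd x) x (pd x) (spec (TrivSqZeroExt.fstHom k k k).toRingHom) := by
  refine IsPullback.of_right ?_ (pullback.lift_snd _ _ _) (IsPullback.of_hasPullback x (spec (algebraMap k k[ε])))
  rw [jd, pullback.lift_fst, ← Spec.map_comp, ← CommRingCat.ofHom_comp,
    show (TrivSqZeroExt.fstHom k k k).toRingHom.comp (algebraMap k k[ε]) = RingHom.id k from
      RingHom.ext (TrivSqZeroExt.fstHom k k k).commutes, CommRingCat.ofHom_id, Spec.map_id]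
  exact IsPullback.of_horiz_isIso ⟨by simp⟩

omit [IsSeparated x] [Smooth x] in
theorem isPullback_id : IsPullback (𝟙 X) x x (spec (RingHom.id k)) := by
  rw [spec, CommRingCat.ofHom_id, Spec.map_id]
  exact IsPullback.of_horiz_isIso ⟨by simp⟩

omit [IsSeparated x] [Smooth x] in
theorem ker_fst_le : RingHom.ker (TrivSqZeroExt.fstHom k k k).toRingHom ≤ nilradical k[ε] := fun a ha => by
  have ha' : a.fst = 0 := ha
  exact ⟨2, by rw [pow_two]; refine TrivSqZeroExt.ext ?_ ?_ <;> simp [ha']⟩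

/-- The trivial lift. -/
abbrev PT : Piece (TrivSqZeroExt.fstHom k k k).toRingHom (RingHom.id k) x x (𝟙 X) (⊤ : X.Opens) :=
  globalPiece small_dualNumber.surj ker_fst_le (isPullback_id x) (pd x) (jd x) (isPullback_jd x)

section chart

variable {x} {f : X ⟶ Spec (CommRingCat.of k)} {G : Gluing small_dualNumber x x (𝟙 X)}

/-- A trivialization gives comparisons in the charts. -/
theorem exists_tau (φ : G.glued ≅ pullback x (spec (algebraMap k k[ε]))) (hφ : φ.hom ≫ pd x = G.toBase)
    (hj : G.incl ≫ φ.hom = jd x) (a : G.Obj) :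
    ∃ τ : (PT x).R a.V →+* (G.P a.j).R a.V, Comp (G.P a.j) (PT x) (a.hle.trans (G.le _)) le_top τ ∧
      G.ι a ≫ φ.hom = spec τ ≫ ((PT x).isAffineOpen_opn a.hV le_top).fromSpec := by
  let fS := ((PT x).isAffineOpen_opn a.hV le_top).fromSpec
  have key : Spec.map ((G.P a.j).redY' (a.hle.trans (G.le _))) ≫ G.ι a ≫ φ.hom =
      Spec.map ((PT x).redY' (le_top : a.V ≤ ⊤)) ≫ fS := by
    rw [spec_redY_global small_dualNumber.surj ker_fst_le (isPullback_id x) (pd x) (jd x) (isPullback_jd x) a.hV,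
      ← hj, ← Category.assoc, ← Category.assoc]
    exact congrArg (· ≫ φ.hom) (G.fromSpec_incl a).symm
  have hrange : Set.range (G.ι a ≫ φ.hom) ⊆ Set.range fS := by
    rintro _ ⟨z, rfl⟩
    obtain ⟨w, rfl⟩ := G.s0_surjective a z
    have e0 : G.s0 a = Spec.map ((𝟙 X : X ⟶ X).appLE (Nil.img (𝟙 X) a.V) a.V (Piece.le_preimage_iY _)) ≫
        Spec.map ((G.P a.j).redY' (a.hle.trans (G.le _))) := by
      rw [← Spec.map_comp]
      exact congrArg Spec.map (CommRingCat.hom_ext ((G.P a.j).red0_eq _))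
    refine ⟨Spec.map ((PT x).redY' (le_top : a.V ≤ ⊤))
      (Spec.map ((𝟙 X : X ⟶ X).appLE (Nil.img (𝟙 X) a.V) a.V (Piece.le_preimage_iY _)) w), ?_⟩
    rw [e0]
    exact (congr($(key).base _)).symm
  let l := IsOpenImmersion.lift fS (G.ι a ≫ φ.hom) hrange
  let τ : (PT x).R a.V →+* (G.P a.j).R a.V := (Spec.preimage l).hom
  have hl : spec τ = l := Spec.map_preimage l
  have hfac : G.ι a ≫ φ.hom = spec τ ≫ fS := by
    rw [hl]
    exact (IsOpenImmersion.lift_fac fS (G.ι a ≫ φ.hom) hrange).symm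
  refine ⟨τ, ⟨?_, ?_⟩, hfac⟩
  · have e : spec (τ.comp ((PT x).α a.V)) = spec ((G.P a.j).α a.V) := by
      refine Eq.trans ?_ (G.ι_toBase a)
      rw [← hφ, ← Category.assoc, hfac]
      erw [Category.assoc]
      erw [fromSpec_p (PT x) a.hV le_top]
      rw [← Spec.map_comp, ← CommRingCat.ofHom_comp]
    exact congrArg CommRingCat.Hom.hom (Spec.map_injective e)
  · have e : Spec.map (CommRingCat.ofHom (((G.P a.j).redY (a.hle.trans (G.le _))).comp τ)) ≫ fS =
        Spec.map ((PT x).redY' (le_top : a.V ≤ ⊤)) ≫ fS := by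
      rw [CommRingCat.ofHom_comp, Spec.map_comp, Category.assoc, ← key]
      erw [← hfac]
      rfl
    exact congrArg CommRingCat.Hom.hom (Spec.map_injective (cancel_mono fS |>.1 e))

end chart

/-- If every deformation over the dual numbers is trivial, Cech cocycles are coboundaries. -/
theorem exactSucc_of_rigid
    (hrig : ∀ (Z : Scheme.{u}) (p : Z ⟶ Spec (CommRingCat.of k[ε])) (j : X ⟶ Z), Flat p →
      IsPullback j x p (spec (TrivSqZeroExt.fstHom k k k).toRingHom) →
      ∃ φ : Z ≅ pullback x (spec (algebraMap k k[ε])), φ.hom ≫ pd x = p ∧ j ≫ φ.hom ≫ pullback.fst _ _ = 𝟙 X)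
    (ι : Type u) (U : ι → X.Opens) (hU : ∀ i, IsAffineOpen (U i)) (hcov : iSup U = ⊤) :
    ExactSucc U (Tan x).obj 0 := by
  intro c hc
  have aff2 : ∀ a b, IsAffineOpen (U a ⊓ U b) := fun a b => isAffineOpen_inf (x := x) (hU a) (hU b)
  let h := small_dualNumber (k := k)
  let P := PT x
  choose Φ hΦ using fun a : Fin 2 → ι => exists_fam (x := x) (W := inter U a)
    (show Γ(RefHull.homSh (SqZeroLift.DerHom.gΩ x (𝟙 X)) (Coh.structureModule X), inter U a) from c a)
  have hl : ∀ {a b : ι} {V : X.Opens}, V ≤ U a → V ≤ U b → V ≤ inter U ![a, b] := fun ha hb => le_iInf fun e => by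
    fin_cases e
    · exact ha
    · exact hb
  have hid : ∀ V, Comp P P (le_top : V ≤ ⊤) le_top (RingHom.id (P.R V)) := fun V => Comp.refl P le_top
  have hshift : ∀ (a b : ι) {V : X.Opens} (hV : IsAffineOpen V) (ha : V ≤ U a) (hb : V ≤ U b),
      ∃ φ, ∃ hφ : Comp P P (le_top : V ≤ ⊤) le_top φ,
        dd h hV (hid V) hφ = fun _ => (Φ ![a, b]).D V hV (hl ha hb) :=
    fun a b V hV ha hb => exists_shift h hV _ _ fun _ =>
      ⟨(Φ ![a, b]).add _ _ _, (Φ ![a, b]).mul _ _ _, (Φ ![a, b]).base _ _ _⟩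
  choose T hT hdd using @hshift
  have hloc : ∀ (a b : ι) (V : X.Opens) (hV : IsAffineOpen V) (ha : V ≤ U a) (hb : V ≤ U b),
      loc h (fun _ => le_top) aff2 (fun _ : ι => P) (fun a b => T a b (aff2 a b) inf_le_left inf_le_right)
        (fun a b => hT a b (aff2 a b) inf_le_left inf_le_right) a b hV ha hb = T a b hV ha hb := by
    intro a b V hV ha hb
    have hP2 : (U a ⊓ U b) ≤ (⊤ : X.Opens) := le_top
    refine cres_shift h P P (aff2 a b) hV (le_inf ha hb) (hid (U a ⊓ U b)) (hT a b (aff2 a b) inf_le_left inf_le_right)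
      (hT a b hV ha hb) (fun _ => ⟨fun V hV hle => (Φ ![a, b]).D V hV (hle.trans (hl inf_le_left inf_le_right)),
        fun V hV hle => (Φ ![a, b]).add _ _ _, fun V hV hle => (Φ ![a, b]).mul _ _ _,
        fun V hV hle => (Φ ![a, b]).base _ _ _, fun V V' hV hV' hle h' => (Φ ![a, b]).res _ _ _ _ _ h'⟩) ?_ ?_
    · exact hdd a b (aff2 a b) inf_le_left inf_le_right
    · rw [show dd h hV (comp_cres h (aff2 a b) (hid (U a ⊓ U b)) (le_inf ha hb) hV) (hT a b hV ha hb) =
        dd h hV (hid V) (hT a b hV ha hb) from dd_congr h hV _ _ _ _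
          (cres_unique h (aff2 a b) _ _ hV (by rw [RingHom.id_comp, RingHom.comp_id])) rfl]
      exact hdd a b hV ha hb
  have hcocyc : ∀ a b d (V : X.Opens) (hV : IsAffineOpen V) (ha : V ≤ U a) (hb : V ≤ U b) (hd : V ≤ U d) z,
      (Φ ![a, d]).D V hV (hl ha hd) z = (Φ ![a, b]).D V hV (hl ha hb) z + (Φ ![b, d]).D V hV (hl hb hd) z := by
    intro a b d V hV ha hb hd z
    refine germO_ext fun y hy => ?_
    have hle : V ≤ inter U ![a, b, d] := le_iInf fun e => by
      fin_cases e
      · exact ha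
      · exact hb
      · exact hd
    have e := congrArg (evT V y hy (hle hy) z) (congr_fun hc ![a, b, d])
    rw [dC_apply, Fin.sum_univ_three] at e
    simp only [Fin.val_zero, pow_zero, one_smul, Fin.val_one, pow_one, neg_smul, Fin.val_two, neg_one_sq,
      map_add, map_neg, evT_res, Pi.zero_apply, map_zero] at e
    have hev : ∀ (q : Fin 2 → ι) (u v : ι), q = ![u, v] → ∀ (hu : V ≤ U u) (hv : V ≤ U v) (hy' : y ∈ inter U q),
        evT V y hy hy' z (c q) = germO V y hy ((Φ ![u, v]).D V hV (hl hu hv) z) := by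
      rintro q u v rfl hu hv hy'
      rw [← evT_sec (Φ ![u, v]) hV (hl hu hv) y hy hy' z, hΦ]
    rw [hev _ b d (by funext e; fin_cases e <;> rfl) hb hd (inter_le_face U ![a, b, d] 0 (hle hy)),
      hev _ a d (by funext e; fin_cases e <;> rfl) ha hd (inter_le_face U ![a, b, d] 1 (hle hy)),
      hev _ a b (by funext e; fin_cases e <;> rfl) ha hb (inter_le_face U ![a, b, d] 2 (hle hy))] at e
    rw [map_add]
    linear_combination (norm := abel) -e
  let G : Gluing h x x (𝟙 X) :=
    { κ := ι, W := U, O := fun _ => ⊤, affW := hU, aff2 := aff2, cover := hcov, le := fun _ => le_top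
      P := fun _ => P
      θ := fun a b => T a b (aff2 a b) inf_le_left inf_le_right
      hθ := fun a b => hT a b (aff2 a b) inf_le_left inf_le_right
      cocycle := fun a b d V hV ha hb hd => by
        rw [hloc a b V hV ha hb, hloc b d V hV hb hd, hloc a d V hV ha hd]
        refine Comp.eq_of_dd h hV ((hT a b hV ha hb).comp (hT b d hV hb hd)) (hT a d hV ha hd) ?_
        funext i z
        have a1 := congrFun (congrFun (dd_add h hV (hid V) (hT a b hV ha hb)
          ((hT a b hV ha hb).comp (hT b d hV hb hd))) i) z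
        have a2 := congrFun (congrFun (dd_add h hV (hid V) ((hT a b hV ha hb).comp (hT b d hV hb hd))
          (hT a d hV ha hd)) i) z
        have a3 : dd h hV (hT a b hV ha hb) ((hT a b hV ha hb).comp (hT b d hV hb hd)) =
            dd h hV (hid V) (hT b d hV hb hd) :=
          (dd_congr h hV (hT a b hV ha hb) ((hT a b hV ha hb).comp (hT b d hV hb hd))
            ((hT a b hV ha hb).comp (hid V)) ((hT a b hV ha hb).comp (hT b d hV hb hd))
            (RingHom.comp_id _).symm rfl).trans (dd_comp_left h hV (hid V) (hT b d hV hb hd) (hT a b hV ha hb))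
        simp only [a3, hdd, Pi.add_apply, Pi.zero_apply] at a1 a2 ⊢
        linear_combination -a2 - a1 + hcocyc a b d V hV ha hb hd z }
  obtain ⟨φ, hφ, hφj⟩ := hrig G.glued G.toBase G.incl G.flat_toBase (G.isPullback_incl h.surj)
  have hj : G.incl ≫ φ.hom = jd x := by
    refine pullback.hom_ext ?_ ?_
    · rw [Category.assoc, hφj, jd, pullback.lift_fst]
    · rw [Category.assoc, hφ, jd, pullback.lift_snd]
      exact (G.isPullback_incl h.surj).w
  choose τ hτ hτι using fun a => exists_tau φ hφ hj (G.top a)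
  have htwist : ∀ a b (V : X.Opens) (hV : IsAffineOpen V) (ha : V ≤ U a) (hb : V ≤ U b),
      cres h (hτ a) (hU a) ha hV = (T a b hV ha hb).comp (cres h (hτ b) (hU b) hb hV) := by
    intro a b V hV ha hb
    let o : G.Obj := ⟨a, V, hV, ha⟩
    let fV := (P.isAffineOpen_opn hV (le_top : V ≤ ⊤)).fromSpec
    have e1 : G.ι o ≫ φ.hom = spec (cres h (hτ a) (hU a) ha hV) ≫ fV := by
      rw [← G.ι_w (a := o) (b := G.top a) ha, Category.assoc, hτι a]
      refine Eq.trans ?_ (congrArg (spec (cres h (hτ a) (hU a) ha hV) ≫ ·) (spec_rres P (hU a) le_top ha hV))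
      have e : (G.tr (a := o) (b := G.top a) ha).comp (τ a) = (cres h (hτ a) (hU a) ha hV).comp (P.rres ha) := by
        refine Eq.trans ?_ (cres_comp_rres h (hU a) (hτ a) ha hV).symm
        rw [Gluing.tr]
        erw [Gluing.cmp_self]
        rw [RingHom.id_comp]
        rfl
      show spec (G.tr (a := o) (b := G.top a) ha) ≫ spec (τ a) ≫ (P.isAffineOpen_opn (hU a) le_top).fromSpec =
        spec (cres h (hτ a) (hU a) ha hV) ≫ spec (P.rres ha) ≫ (P.isAffineOpen_opn (hU a) le_top).fromSpec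
      simp only [← Category.assoc]
      refine congrArg (· ≫ _) ?_
      erw [← Spec.map_comp, ← Spec.map_comp]
      exact congrArg Spec.map (CommRingCat.hom_ext e)
    have e2 : G.ι o ≫ φ.hom = spec ((T a b hV ha hb).comp (cres h (hτ b) (hU b) hb hV)) ≫ fV := by
      rw [← G.ι_w (a := o) (b := G.top b) hb, Category.assoc, hτι b]
      refine Eq.trans ?_ (congrArg (spec ((T a b hV ha hb).comp (cres h (hτ b) (hU b) hb hV)) ≫ ·)
        (spec_rres P (hU b) le_top hb hV))
      have e : (G.tr (a := o) (b := G.top b) hb).comp (τ b) =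
          ((T a b hV ha hb).comp (cres h (hτ b) (hU b) hb hV)).comp (P.rres hb) := by
        refine Eq.trans ?_ ((congrArg (fun φ => (T a b hV ha hb).comp φ)
          (cres_comp_rres h (hU b) (hτ b) hb hV)).symm.trans (RingHom.comp_assoc _ _ _).symm)
        refine Eq.trans ?_ (RingHom.comp_assoc _ _ _)
        refine congrArg (fun φ : P.R (U b) →+* P.R V => φ.comp (τ b)) ?_
        rw [← hloc a b V hV ha hb]
        rfl
      show spec (G.tr (a := o) (b := G.top b) hb) ≫ spec (τ b) ≫ (P.isAffineOpen_opn (hU b) le_top).fromSpec =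
        spec ((T a b hV ha hb).comp (cres h (hτ b) (hU b) hb hV)) ≫ spec (P.rres hb) ≫ (P.isAffineOpen_opn (hU b) le_top).fromSpec
      simp only [← Category.assoc]
      refine congrArg (· ≫ _) ?_
      erw [← Spec.map_comp, ← Spec.map_comp]
      exact congrArg Spec.map (CommRingCat.hom_ext e)
    exact congrArg CommRingCat.Hom.hom (Spec.map_injective ((cancel_mono fV).1 (e1.symm.trans e2)))
  refine ⟨fun q => -Cech.Complex.res (Tan x).obj (inter_le U q 0)
    ((ddFam h (hU (q 0)) (hid (U (q 0))) (hτ (q 0)) (0 : Fin 1)).sec :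
      Γ(RefHull.homSh (SqZeroLift.DerHom.gΩ x (𝟙 X)) (Coh.structureModule X), U (q 0))), funext fun q => ?_⟩
  refine evT_ext fun V hV hl' y hy hU' z => ?_
  have ha : V ≤ U (q 0) := hl'.trans (inter_le U q 0)
  have hb : V ≤ U (q 1) := hl'.trans (inter_le U q 1)
  have hA : ∀ a (ha : V ≤ U a), evT V y hy (ha hy) z
      ((ddFam h (hU a) (hid (U a)) (hτ a) (0 : Fin 1)).sec :
        Γ(RefHull.homSh (SqZeroLift.DerHom.gΩ x (𝟙 X)) (Coh.structureModule X), U a)) =
      germO V y hy (dd h hV (hid V) (comp_cres h (hU a) (hτ a) ha hV) 0 z) := fun a ha => by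
    refine (evT_sec _ hV ha y hy _ z).trans (congrArg (germO V y hy) ?_)
    exact congrFun (congrFun (dd_congr h hV (comp_cres h (hU a) (hid (U a)) ha hV) (comp_cres h (hU a) (hτ a) ha hV)
      (hid V) (comp_cres h (hU a) (hτ a) ha hV) (cres_unique h (hU a) _ ha hV (by rw [RingHom.id_comp, RingHom.comp_id]))
      rfl) 0) z
  have hcq : evT V y hy hU' z (c q) = germO V y hy ((Φ ![q 0, q 1]).D V hV (hl ha hb) z) := by
    have e : q = ![q 0, q 1] := by funext e; fin_cases e <;> rfl
    have hev : ∀ (q' : Fin 2 → ι), q' = ![q 0, q 1] → ∀ (hy' : y ∈ inter U q'),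
        evT V y hy hy' z (c q') = germO V y hy ((Φ ![q 0, q 1]).D V hV (hl ha hb) z) := by
      rintro q' rfl hy'
      rw [← evT_sec (Φ ![q 0, q 1]) hV (hl ha hb) y hy hy' z, hΦ]
    exact hev q e hU'
  rw [hcq, dC_apply, Fin.sum_univ_two]
  simp only [Fin.val_zero, pow_zero, one_smul, Fin.val_one, pow_one, neg_smul, map_add, map_neg, evT_res]
  have hA0 : ∀ (d : ι) (hd : V ≤ U d) (q' : Fin 1 → ι) (_ : q' 0 = d) (hy' : y ∈ U (q' 0)),
      evT V y hy hy' z ((ddFam h (hU (q' 0)) (hid (U (q' 0))) (hτ (q' 0)) (0 : Fin 1)).sec :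
        Γ(RefHull.homSh (SqZeroLift.DerHom.gΩ x (𝟙 X)) (Coh.structureModule X), U (q' 0))) =
      germO V y hy (dd h hV (hid V) (comp_cres h (hU d) (hτ d) hd hV) 0 z) := by
    rintro d hd q' rfl hy'
    exact hA _ hd
  erw [hA0 (q 1) hb (q ∘ Fin.succAbove 0) rfl, hA0 (q 0) ha (q ∘ Fin.succAbove 1) rfl]
  rw [neg_neg, neg_add_eq_sub, ← map_sub]
  refine congrArg _ ?_
  have b1 := congrFun (congrFun (dd_add h hV (hid V) (hT (q 0) (q 1) hV ha hb)
    ((hT (q 0) (q 1) hV ha hb).comp (comp_cres h (hU (q 1)) (hτ (q 1)) hb hV))) 0) z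
  have b2 : dd h hV (hT (q 0) (q 1) hV ha hb)
      ((hT (q 0) (q 1) hV ha hb).comp (comp_cres h (hU (q 1)) (hτ (q 1)) hb hV)) =
      dd h hV (hid V) (comp_cres h (hU (q 1)) (hτ (q 1)) hb hV) :=
    (dd_congr h hV _ _ ((hT (q 0) (q 1) hV ha hb).comp (hid V)) _ (RingHom.comp_id _).symm rfl).trans
      (dd_comp_left h hV (hid V) (comp_cres h (hU (q 1)) (hτ (q 1)) hb hV) (hT (q 0) (q 1) hV ha hb))
  have b3 := congrFun (congrFun (dd_congr h hV (hid V) (comp_cres h (hU (q 0)) (hτ (q 0)) ha hV) (hid V)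
    ((hT (q 0) (q 1) hV ha hb).comp (comp_cres h (hU (q 1)) (hτ (q 1)) hb hV)) rfl
    (htwist (q 0) (q 1) V hV ha hb)) 0) z
  simp only [b2, hdd, Pi.add_apply] at b1
  linear_combination b3 + b1

/-- Rigid over the dual numbers implies `Ext¹(Ω, O) = 0`. -/
theorem ext1_of_rigid [HasExt.{u} X.Modules]
    (hrig : ∀ (Z : Scheme.{u}) (p : Z ⟶ Spec (CommRingCat.of k[ε])) (j : X ⟶ Z), Flat p →
      IsPullback j x p (spec (TrivSqZeroExt.fstHom k k k).toRingHom) →
      ∃ φ : Z ≅ pullback x (spec (algebraMap k k[ε])), φ.hom ≫ pd x = p ∧ j ≫ φ.hom ≫ pullback.fst _ _ = 𝟙 X) :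
    Subsingleton (Abelian.Ext.{u} (Omega.sheaf x) (Coh.structureModule X) 1) :=
  subsingleton_ext1 (subsingleton_H1_of_cocycles (Tan x) (exactSucc_of_rigid x hrig))

end Groth.Agent.Lib.SmallLift
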