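import Groth.Agent.Lib.SmallLift.TorsorAux

/-!
# Lifts of a smooth deformation form a torsor under `H¹(T)^m`
-/

noncomputable section

universe u

open CategoryTheory CategoryTheory.Limits AlgebraicGeometry TopologicalSpace Opposite
open Groth.Agent.Lib.Cech.Complex

namespace Groth.Agent.Lib.SmallLift

open Alg

variable {A' A k : Type u} [CommRing A'] [CommRing A] [Field k] {π : A' →+* A} {ρ : A →+* k}
  {X Y : Scheme.{u}} {x : X ⟶ Spec (CommRingCat.of k)} {f : Y ⟶ Spec (CommRingCat.of A)}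
  {iY : X ⟶ Y} [IsClosedImmersion iY] [Surjective iY] {m : ℕ} {t : Fin m → A'}

/-- A flat lift of a deformation. -/
structure Lft (π : A' →+* A) {Y : Scheme.{u}} (f : Y ⟶ Spec (CommRingCat.of A)) where
  /-- the total space -/
  Z : Scheme.{u}
  /-- the structure map -/
  p : Z ⟶ Spec (CommRingCat.of A')
  flat : Flat p
  /-- the inclusion -/
  j : Y ⟶ Z
  pb : IsPullback j f p (spec π)

attribute [instance] Lft.flat

/-- Isomorphism of lifts. -/
def Lft.Rel (E E' : Lft π f) : Prop := ∃ e : E.Z ≅ E'.Z, e.hom ≫ E'.p = E.p ∧ E.j ≫ e.hom = E'.j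

variable (h : Small π ρ t) (hY : IsPullback iY x f (spec ρ))

include h in
lemma ker_le_nilradical : RingHom.ker π ≤ nilradical A' := fun a ha => by
  obtain ⟨n, hn⟩ := h.nil
  refine ⟨n, ?_⟩
  have := Ideal.pow_mem_pow (Alg.ker_le h ha) n
  rwa [show RingHom.ker (ρ.comp π) ^ n = 0 from hn] at this

/-- A lift as a piece. -/
abbrev Lft.piece (E : Lft π f) : Piece π ρ x f iY (⊤ : X.Opens) :=
  globalPiece h.surj (ker_le_nilradical h) hY E.p E.j E.pb

variable {κ : Type u} (W : κ → X.Opens) (hW : ∀ a, IsAffineOpen (W a))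
  (hi : ∀ a : Fin 2 → κ, IsAffineOpen (inter W a))

section indep

variable {P Q : Piece π ρ x f iY (⊤ : X.Opens)} [QuasiSeparated x]
  (θ θ' : ∀ a, Q.R (W a) →+* P.R (W a))
  (hθ : ∀ a, Comp P Q (le_top : W a ≤ ⊤) le_top (θ a)) (hθ' : ∀ a, Comp P Q (le_top : W a ≤ ⊤) le_top (θ' a))

/-- Changing the comparisons changes the cochain by a coboundary. -/
theorem exists_dC_eq_sub (i : Fin m) : ∃ s : Cochain W (Tan x).obj 0,
    dC W (Tan x).obj 0 s = diffC h P Q W hW hi (fun _ => le_top) (fun _ => le_top) θ' hθ' i -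
      diffC h P Q W hW hi (fun _ => le_top) (fun _ => le_top) θ hθ i := by
  refine ⟨fun q => Cech.Complex.res (Tan x).obj (inter_le W q 0)
    ((ddFam h (hW (q 0)) (hθ (q 0)) (hθ' (q 0)) i).sec :
      Γ(RefHull.homSh (SqZeroLift.DerHom.gΩ x (𝟙 X)) (Coh.structureModule X), W (q 0))), funext fun a => ?_⟩
  refine evT_ext fun V hV hl y hy hU z => ?_
  rw [dC_apply, Fin.sum_univ_two]
  simp only [Fin.val_zero, pow_zero, one_smul, Fin.val_one, pow_one, neg_smul, map_add, map_neg, evT_res]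
  rw [Pi.sub_apply, map_sub]
  rw [evT_diffC h P Q W hW hi _ _ θ' hθ' i a hV hl y hy z, evT_diffC h P Q W hW hi _ _ θ hθ i a hV hl y hy z]
  have hD : ∀ (q : Fin 1 → κ) (d : κ) (_ : q 0 = d) (hd : V ≤ W d) (hy' : y ∈ W (q 0)),
      evT V y hy hy' z ((ddFam h (hW (q 0)) (hθ (q 0)) (hθ' (q 0)) i).sec :
        Γ(RefHull.homSh (SqZeroLift.DerHom.gΩ x (𝟙 X)) (Coh.structureModule X), W (q 0))) =
      germO V y hy (dd h hV (comp_cres h (hW d) (hθ d) hd hV) (comp_cres h (hW d) (hθ' d) hd hV) i z) := by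
    rintro q d rfl hd hy'
    exact evT_sec _ hV hd y hy hy' z
  have hb : V ≤ W (a 1) := hl.trans (inter_le W a 1)
  have ha : V ≤ W (a 0) := hl.trans (inter_le W a 0)
  erw [hD (a ∘ Fin.succAbove 0) (a 1) rfl hb, hD (a ∘ Fin.succAbove 1) (a 0) rfl ha]
  rw [← map_neg, ← map_add, ← map_sub]
  refine congrArg _ ?_
  have e1 := congrFun (congrFun (dd_add h hV (comp_cres h (hW (a 0)) (hθ (a 0)) ha hV)
    (comp_cres h (hW (a 0)) (hθ' (a 0)) ha hV) (comp_cres h (hW (a 1)) (hθ' (a 1)) hb hV)) i) z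
  have e2 := congrFun (congrFun (dd_add h hV (comp_cres h (hW (a 0)) (hθ (a 0)) ha hV)
    (comp_cres h (hW (a 1)) (hθ (a 1)) hb hV) (comp_cres h (hW (a 1)) (hθ' (a 1)) hb hV)) i) z
  simp only [Pi.add_apply] at e1 e2
  linear_combination e1 - e2

/-- The classes of two families of comparisons agree. -/
theorem mk_diffC_eq : (fun i => QuotientAddGroup.mk' (B1 W (Tan x).obj)
      ⟨diffC h P Q W hW hi (fun _ => le_top) (fun _ => le_top) θ hθ i,
        dC_diffC h P Q W hW hi (fun _ => le_top) (fun _ => le_top) θ hθ i⟩) =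
    fun i => QuotientAddGroup.mk' (B1 W (Tan x).obj)
      ⟨diffC h P Q W hW hi (fun _ => le_top) (fun _ => le_top) θ' hθ' i,
        dC_diffC h P Q W hW hi (fun _ => le_top) (fun _ => le_top) θ' hθ' i⟩ := by
  funext i
  rw [QuotientAddGroup.mk'_eq_mk']
  obtain ⟨s, hs⟩ := exists_dC_eq_sub h W hW hi θ θ' hθ hθ' i
  refine ⟨⟨dC W (Tan x).obj 0 s, dC_dC W (Tan x).obj 0 s⟩, ⟨s, rfl⟩, Subtype.ext ?_⟩
  show _ + dC W (Tan x).obj 0 s = _
  rw [hs]
  abel

end indep

variable (P : Piece π ρ x f iY (⊤ : X.Opens)) [IsSeparated x] [Smooth x]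

/-- The chosen comparisons. -/
def Lft.th (E : Lft π f) (a : κ) : (E.piece h hY).R (W a) →+* P.R (W a) :=
  (exists_comp h P (E.piece h hY) (hW a) le_top le_top).choose

lemma Lft.comp_th (E : Lft π f) (a : κ) : Comp P (E.piece h hY) (le_top : W a ≤ ⊤) le_top (E.th h hY W hW P a) :=
  (exists_comp h P (E.piece h hY) (hW a) le_top le_top).choose_spec

/-- The class of a lift. -/
def Lft.cls (E : Lft π f) : Fin m → Q1 W (Tan x).obj := fun i =>
  QuotientAddGroup.mk' (B1 W (Tan x).obj)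
    ⟨diffC h P (E.piece h hY) W hW hi (fun _ => le_top) (fun _ => le_top) (E.th h hY W hW P) (E.comp_th h hY W hW P) i,
      dC_diffC h P (E.piece h hY) W hW hi (fun _ => le_top) (fun _ => le_top) (E.th h hY W hW P)
        (E.comp_th h hY W hW P) i⟩

theorem Lft.cls_eq_of_rel {E E' : Lft π f} (hr : Lft.Rel E E') :
    E.cls h hY W hW hi P = E'.cls h hY W hW hi P := by
  obtain ⟨e, hp, hj⟩ := hr
  let Q := E.piece h hY
  let Q' := E'.piece h hY
  choose τ hτ hτg using fun a => exists_comp_of_mor h Q Q' (hW a) le_top le_top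
    ((Q.isAffineOpen_opn (hW a) le_top).fromSpec ≫ e.hom)
    (by
      rw [Category.assoc]
      exact (congrArg (_ ≫ ·) hp).trans (fromSpec_p Q (hW a) le_top))
    (by
      rw [← Category.assoc, spec_redY_global h.surj (ker_le_nilradical h) hY E.p E.j E.pb (hW a),
        spec_redY_global h.surj (ker_le_nilradical h) hY E'.p E'.j E'.pb (hW a)]
      exact (Category.assoc _ _ _).trans (congrArg (_ ≫ ·) hj))
  have hc : ∀ a b (V : X.Opens) (hV : IsAffineOpen V) (ha : V ≤ W a) (hb : V ≤ W b),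
      cres h (hτ a) (hW a) ha hV = cres h (hτ b) (hW b) hb hV := by
    intro a b V hV ha hb
    have key : ∀ d (hd : V ≤ W d), spec (cres h (hτ d) (hW d) hd hV) ≫ (Q'.isAffineOpen_opn hV le_top).fromSpec =
        (Q.isAffineOpen_opn hV le_top).fromSpec ≫ e.hom := fun d hd => by
      have e1 : spec (cres h (hτ d) (hW d) hd hV) ≫ spec (Q'.rres hd) = spec (Q.rres hd) ≫ spec (τ d) := by
        rw [← Spec.map_comp, ← Spec.map_comp, ← CommRingCat.ofHom_comp, ← CommRingCat.ofHom_comp, cres_comp_rres]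
      refine (congrArg (_ ≫ ·) (spec_rres Q' (hW d) le_top hd hV).symm).trans ?_
      refine ((Category.assoc _ _ _).symm.trans (congrArg (· ≫ _) e1)).trans ?_
      refine ((Category.assoc _ _ _).trans (congrArg (_ ≫ ·) (hτg d).symm)).trans ?_
      exact (Category.assoc _ _ _).symm.trans (congrArg (· ≫ _) (spec_rres Q (hW d) le_top hd hV))
    exact congrArg CommRingCat.Hom.hom
      (Spec.map_injective ((cancel_mono _).1 ((key a ha).trans (key b hb).symm)))
  refine Eq.trans ?_ (mk_diffC_eq h W hW hi (fun a => (E.th h hY W hW P a).comp (τ a)) (E'.th h hY W hW P)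
    (fun a => (E.comp_th h hY W hW P a).comp (hτ a)) (E'.comp_th h hY W hW P))
  funext i
  show QuotientAddGroup.mk' (B1 W (Tan x).obj) _ = QuotientAddGroup.mk' (B1 W (Tan x).obj) _
  refine congrArg (QuotientAddGroup.mk' (B1 W (Tan x).obj)) (Subtype.ext (funext fun a => ?_))
  refine evT_ext fun V hV hl y hy hU z => ?_
  rw [evT_diffC h P Q W hW hi _ _ _ (E.comp_th h hY W hW P) i a hV hl y hy z,
    evT_diffC h P Q' W hW hi _ _ _ (fun a => (E.comp_th h hY W hW P a).comp (hτ a)) i a hV hl y hy z]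
  have ha : V ≤ W (a 0) := hl.trans (inter_le W a 0)
  have hb : V ≤ W (a 1) := hl.trans (inter_le W a 1)
  refine congrArg _ (congrFun (congrFun ?_ i) z)
  have e1 := cres_comp h (hW (a 0)) (E.comp_th h hY W hW P (a 0)) (hτ (a 0)) ha hV
  have e2 := cres_comp h (hW (a 1)) (E.comp_th h hY W hW P (a 1)) (hτ (a 1)) hb hV
  rw [← hc (a 0) (a 1) V hV ha hb] at e2
  refine Eq.trans ?_ (dd_congr h hV
    ((comp_cres h (hW (a 0)) (E.comp_th h hY W hW P (a 0)) ha hV).comp (comp_cres h (hW (a 0)) (hτ (a 0)) ha hV))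
    ((comp_cres h (hW (a 1)) (E.comp_th h hY W hW P (a 1)) hb hV).comp (comp_cres h (hW (a 0)) (hτ (a 0)) ha hV))
    _ _ e1.symm e2.symm)
  exact (dd_comp_right h hV (comp_cres h (hW (a 0)) (E.comp_th h hY W hW P (a 0)) ha hV)
    (comp_cres h (hW (a 1)) (E.comp_th h hY W hW P (a 1)) hb hV) (comp_cres h (hW (a 0)) (hτ (a 0)) ha hV)).symm

theorem Lft.rel_of_cls_eq (hcov : iSup W = ⊤) {E E' : Lft π f}
    (he : E.cls h hY W hW hi P = E'.cls h hY W hW hi P) : Lft.Rel E E' := by
  let Q := E.piece h hY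
  let Q' := E'.piece h hY
  let θ := E.th h hY W hW P
  let hθ := E.comp_th h hY W hW P
  let θ' := E'.th h hY W hW P
  let hθ' := E'.comp_th h hY W hW P
  have hs : ∀ i, ∃ s, dC W (Tan x).obj 0 s =
      diffC h P Q W hW hi (fun _ => le_top) (fun _ => le_top) θ hθ i -
        diffC h P Q' W hW hi (fun _ => le_top) (fun _ => le_top) θ' hθ' i := fun i => by
    obtain ⟨⟨z, hz⟩, ⟨s, hs⟩, hzz⟩ := (QuotientAddGroup.mk'_eq_mk' _).1 (congrFun he i).symm
    exact ⟨s, eq_sub_of_add_eq' (hs ▸ congrArg Subtype.val hzz)⟩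
  choose s hs using hs
  have hle1 : ∀ a, W a ≤ inter W fun _ : Fin 1 => a := fun a => le_iInf fun _ => le_rfl
  choose Φ hΦ using fun (i : Fin m) (a : κ) =>
    exists_fam (x := x) (W := W a)
      (show Γ(RefHull.homSh (SqZeroLift.DerHom.gΩ x (𝟙 X)) (Coh.structureModule X), W a) from
        Cech.Complex.res (Tan x).obj (hle1 a) (s i fun _ => a))
  have hshift : ∀ a {V : X.Opens} (hV : IsAffineOpen V) (ha : V ≤ W a), ∃ φ, ∃ hφ : Comp P Q' le_top le_top φ,
      dd h hV (comp_cres h (hW a) (hθ' a) ha hV) hφ = fun i => (Φ i a).D V hV ha :=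
    fun a V hV ha => exists_shift h hV _ _ fun i => ⟨(Φ i a).add _ _ _, (Φ i a).mul _ _ _, (Φ i a).base _ _ _⟩
  choose T hT hdd using @hshift
  have hres : ∀ a (V : X.Opens) (hV : IsAffineOpen V) (ha : V ≤ W a),
      cres h (hT a (hW a) le_rfl) (hW a) ha hV = T a hV ha := fun a V hV ha => by
    refine cres_shift h P Q' (hW a) hV ha (hθ' a) (hT a (hW a) le_rfl) (hT a hV ha) (fun i => Φ i a) ?_ (hdd a hV ha)
    rw [← hdd a (hW a) le_rfl]
    exact dd_congr h (hW a) _ _ _ _ (cres_self h (hW a) (hθ' a) le_rfl).symm rfl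
  have hbij : ∀ a, Function.Bijective (θ a) := fun a => by
    obtain ⟨φ, hφ⟩ := exists_comp h Q P (hW a) le_top le_top
    have b1 := bijective_of_congr h (Q.fib (surj_ρπ h) (hW a) le_top) (φ.comp (θ a)) (hφ.comp (hθ a)).hα
      ((hφ.comp (hθ a)).congr_ker h.surj (hW a) (Comp.refl Q le_top))
    have b2 := bijective_of_congr h (P.fib (surj_ρπ h) (hW a) le_top) ((θ a).comp φ) ((hθ a).comp hφ).hα
      (((hθ a).comp hφ).congr_ker h.surj (hW a) (Comp.refl P le_top))
    exact ⟨fun u v e => b1.1 (congrArg φ e), fun u => (b2.2 u).elim fun w hw => ⟨φ w, hw⟩⟩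
  let σ : ∀ a, P.R (W a) →+* Q.R (W a) := fun a =>
    ((RingEquiv.ofBijective (θ a) (hbij a)).symm : P.R (W a) ≃+* Q.R (W a)).toRingHom
  have hσ : ∀ a, (σ a).comp (θ a) = RingHom.id _ := fun a =>
    RingHom.ext fun r => (RingEquiv.ofBijective (θ a) (hbij a)).symm_apply_apply r
  have hσ' : ∀ a, (θ a).comp (σ a) = RingHom.id _ := fun a =>
    RingHom.ext fun r => (RingEquiv.ofBijective (θ a) (hbij a)).apply_symm_apply r
  have hσc : ∀ a, Comp Q P (le_top : W a ≤ ⊤) le_top (σ a) := fun a =>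
    ⟨by rw [← (hθ a).hα, ← RingHom.comp_assoc, hσ, RingHom.id_comp],
      by rw [← (hθ a).hY, RingHom.comp_assoc, hσ', RingHom.comp_id]⟩
  let τ : ∀ a, Q'.R (W a) →+* Q.R (W a) := fun a => (σ a).comp (T a (hW a) le_rfl)
  have hτ : ∀ a, Comp Q Q' (le_top : W a ≤ ⊤) le_top (τ a) := fun a => (hσc a).comp (hT a (hW a) le_rfl)
  have hθτ : ∀ a (V : X.Opens) (hV : IsAffineOpen V) (ha : V ≤ W a),
      (cres h (hθ a) (hW a) ha hV).comp (cres h (hτ a) (hW a) ha hV) = T a hV ha := fun a V hV ha => by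
    rw [← cres_comp h (hW a) (hθ a) (hτ a) ha hV, ← hres a V hV ha]
    refine cres_unique h (hW a) _ ha hV ?_
    rw [cres_comp_rres, show (θ a).comp (τ a) = T a (hW a) le_rfl by
      rw [← RingHom.comp_assoc, hσ', RingHom.id_comp]]
  have hc : ∀ a b (V : X.Opens) (hV : IsAffineOpen V) (ha : V ≤ W a) (hb : V ≤ W b),
      cres h (hτ a) (hW a) ha hV = cres h (hτ b) (hW b) hb hV := by
    intro a b V hV ha hb
    have ca := comp_cres h (hW a) (hθ a) ha hV
    have cb := comp_cres h (hW b) (hθ b) hb hV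
    have ta := comp_cres h (hW a) (hτ a) ha hV
    have key : dd h hV ca cb = dd h hV (hT a hV ha) (hT b hV hb) := by
      funext i z
      have e1 := congrFun (congrFun (dd_add h hV (comp_cres h (hW a) (hθ' a) ha hV) (hT a hV ha) (hT b hV hb)) i) z
      have e2 := congrFun (congrFun (dd_add h hV (comp_cres h (hW a) (hθ' a) ha hV)
        (comp_cres h (hW b) (hθ' b) hb hV) (hT b hV hb)) i) z
      simp only [hdd, Pi.add_apply] at e1 e2
      have e3 : dd h hV ca cb i z = dd h hV (comp_cres h (hW a) (hθ' a) ha hV) (comp_cres h (hW b) (hθ' b) hb hV) i z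
          + (Φ i b).D V hV hb z - (Φ i a).D V hV ha z := by
        refine germO_ext fun y hy => ?_
        have hl : V ≤ inter W ![a, b] := by rw [inter_two]; exact le_inf ha hb
        have e := congrArg (evT V y hy (hl hy) z) (congr_fun (hs i) ![a, b])
        rw [dC_apply, Fin.sum_univ_two, Pi.sub_apply, map_sub] at e
        simp only [Fin.val_zero, pow_zero, one_smul, Fin.val_one, pow_one, neg_smul, map_add, map_neg, evT_res] at e
        rw [evT_diffC h P Q W hW hi _ _ θ hθ i ![a, b] hV hl y hy z,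
          evT_diffC h P Q' W hW hi _ _ θ' hθ' i ![a, b] hV hl y hy z] at e
        have hsec : ∀ (q : Fin 1 → κ) (d : κ) (_ : q 0 = d) (hd : V ≤ W d) (hy' : y ∈ inter W q),
            evT V y hy hy' z (s i q) = germO V y hy ((Φ i d).D V hV hd z) := by
          intro q d hqd hd hy'
          obtain rfl : q = fun _ => d := funext fun w => by rw [Subsingleton.elim w 0, hqd]
          rw [← evT_sec (Φ i d) hV hd y hy (hd hy) z, hΦ i d]
          rfl
        rw [hsec (![a, b] ∘ Fin.succAbove 0) b rfl hb (inter_le_face W ![a, b] 0 (hl hy)),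
          hsec (![a, b] ∘ Fin.succAbove 1) a rfl ha (inter_le_face W ![a, b] 1 (hl hy))] at e
        rw [map_sub, map_add]
        have e' : germO V y hy ((Φ i b).D V hV hb z) + -germO V y hy ((Φ i a).D V hV ha z) =
            germO V y hy (dd h hV ca cb i z) -
              germO V y hy (dd h hV (comp_cres h (hW a) (hθ' a) ha hV) (comp_cres h (hW b) (hθ' b) hb hV) i z) := e
        linear_combination (norm := abel) -e'
      linear_combination e3 - e2 + e1
    have hz : dd h hV (cb.comp ta) (hT b hV hb) = 0 := by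
      have h1 := dd_add h hV (ca.comp ta) (cb.comp ta) (hT b hV hb)
      rw [dd_comp_right h hV ca cb ta, dd_congr h hV (ca.comp ta) (hT b hV hb) (hT a hV ha) (hT b hV hb)
        (hθτ a V hV ha) rfl, ← key] at h1
      exact left_eq_add.1 h1
    have hinj : Function.Injective (cres h (hθ b) (hW b) hb hV) := by
      intro u v e
      have hh : (cres h (hσc b) (hW b) hb hV).comp (cres h (hθ b) (hW b) hb hV) = RingHom.id _ := by
        rw [← cres_comp h (hW b) (hσc b) (hθ b)]
        refine cres_unique h (hW b) _ hb hV (RingHom.ext fun r => ?_)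
        show Q.rres hb r = Q.rres hb (σ b (θ b r))
        exact congrArg (Q.rres hb) (RingHom.congr_fun (hσ b) r).symm
      exact (RingHom.congr_fun hh u).symm.trans ((congrArg _ e).trans (RingHom.congr_fun hh v))
    refine RingHom.ext fun r => hinj ?_
    exact (RingHom.congr_fun (Comp.eq_of_dd h hV _ _ hz) r).trans (RingHom.congr_fun (hθτ b V hV hb) r).symm
  have h2 : ∀ a b, IsAffineOpen (W a ⊓ W b) := fun a b => isAffineOpen_inf (x := x) (hW a) (hW b)
  obtain ⟨e, hp, hY'⟩ := exists_iso_of_compat h Q Q' rfl rfl W hW h2 hcov τ hτ hc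
  refine ⟨e, hp, ?_⟩
  let 𝒰 : Y.OpenCover := Scheme.Cover.mkOfCovers κ
    (fun a => Spec Γ(Y, Nil.img iY (W a))) (fun a => (Nil.isAffineOpen_img iY (hW a)).fromSpec) (fun y => by
      obtain ⟨y, rfl⟩ := iY.surjective y
      obtain ⟨a, ha⟩ := Opens.mem_iSup.1 (hcov.ge (Opens.mem_top y))
      obtain ⟨w, hw⟩ := (Nil.isAffineOpen_img iY (hW a)).range_fromSpec.ge ((Nil.apply_mem_img iY).2 ha)
      exact ⟨a, w, hw⟩) (fun a => inferInstance)
  refine 𝒰.hom_ext _ _ fun a => ?_
  show (Nil.isAffineOpen_img iY (hW a)).fromSpec ≫ E.j ≫ e.hom = (Nil.isAffineOpen_img iY (hW a)).fromSpec ≫ E'.j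
  rw [← Category.assoc, ← spec_redY_global h.surj (ker_le_nilradical h) hY E.p E.j E.pb (hW a),
    ← spec_redY_global h.surj (ker_le_nilradical h) hY E'.p E'.j E'.pb (hW a)]
  exact (Category.assoc _ _ _).trans (hY' a)

/-- Every class is realized. -/
theorem Lft.exists_cls_eq (hcov : iSup W = ⊤) (c : Fin m → Q1 W (Tan x).obj) :
    ∃ E : Lft π f, E.cls h hY W hW hi P = c := by
  choose c' hc' using fun i => QuotientAddGroup.mk'_surjective (B1 W (Tan x).obj) (c i)
  have h2 : ∀ a b, IsAffineOpen (W a ⊓ W b) := fun a b => isAffineOpen_inf (x := x) (hW a) (hW b)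
  choose Φ hΦ using fun (i : Fin m) (a : Fin 2 → κ) => exists_fam (x := x) (W := inter W a)
    (show Γ(RefHull.homSh (SqZeroLift.DerHom.gΩ x (𝟙 X)) (Coh.structureModule X), inter W a) from -((c' i).1 a))
  have hl : ∀ {a b : κ} {V : X.Opens}, V ≤ W a → V ≤ W b → V ≤ inter W ![a, b] := fun ha hb => le_iInf fun e => by
    fin_cases e
    · exact ha
    · exact hb
  have hid : ∀ V, Comp P P (le_top : V ≤ ⊤) le_top (RingHom.id (P.R V)) := fun V => Comp.refl P le_top
  have hshift : ∀ (a b : κ) {V : X.Opens} (hV : IsAffineOpen V) (ha : V ≤ W a) (hb : V ≤ W b),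
      ∃ φ, ∃ hφ : Comp P P (le_top : V ≤ ⊤) le_top φ,
        dd h hV (hid V) hφ = fun i => (Φ i ![a, b]).D V hV (hl ha hb) :=
    fun a b V hV ha hb => exists_shift h hV _ _ fun i =>
      ⟨(Φ i ![a, b]).add _ _ _, (Φ i ![a, b]).mul _ _ _, (Φ i ![a, b]).base _ _ _⟩
  choose T hT hdd using @hshift
  have hloc : ∀ (a b : κ) (V : X.Opens) (hV : IsAffineOpen V) (ha : V ≤ W a) (hb : V ≤ W b),
      loc h (fun _ => le_top) h2 (fun _ : κ => P) (fun a b => T a b (h2 a b) inf_le_left inf_le_right)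
        (fun a b => hT a b (h2 a b) inf_le_left inf_le_right) a b hV ha hb = T a b hV ha hb := by
    intro a b V hV ha hb
    refine cres_shift h P P (h2 a b) hV (le_inf ha hb) (hid (W a ⊓ W b)) (hT a b (h2 a b) inf_le_left inf_le_right)
      (hT a b hV ha hb) (fun i => ⟨fun V hV hle => (Φ i ![a, b]).D V hV (hle.trans (hl inf_le_left inf_le_right)),
        fun V hV hle => (Φ i ![a, b]).add _ _ _, fun V hV hle => (Φ i ![a, b]).mul _ _ _,
        fun V hV hle => (Φ i ![a, b]).base _ _ _, fun V V' hV hV' hle h' => (Φ i ![a, b]).res _ _ _ _ _ h'⟩) ?_ ?_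
    · exact hdd a b (h2 a b) inf_le_left inf_le_right
    · rw [show dd h hV (comp_cres h (h2 a b) (hid (W a ⊓ W b)) (le_inf ha hb) hV) (hT a b hV ha hb) =
        dd h hV (hid V) (hT a b hV ha hb) from dd_congr h hV _ _ _ _
          (cres_unique h (h2 a b) _ _ hV (by rw [RingHom.id_comp, RingHom.comp_id])) rfl]
      exact hdd a b hV ha hb
  have hev : ∀ i (q : Fin 2 → κ) (u v : κ), q = ![u, v] → ∀ (V : X.Opens) (hV : IsAffineOpen V) (hu : V ≤ W u)
      (hv : V ≤ W v) (y : X) (hy : y ∈ V) (hy' : y ∈ inter W q) z,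
      evT V y hy hy' z ((c' i).1 q) = - germO V y hy ((Φ i ![u, v]).D V hV (hl hu hv) z) := by
    rintro i q u v rfl V hV hu hv y hy hy' z
    rw [← evT_sec (Φ i ![u, v]) hV (hl hu hv) y hy hy' z, hΦ]
    exact (neg_eq_iff_eq_neg.2 (map_neg (evT V y hy hy' z) ((c' i).1 ![u, v]))).symm
  have hcocyc : ∀ i a b d (V : X.Opens) (hV : IsAffineOpen V) (ha : V ≤ W a) (hb : V ≤ W b) (hd : V ≤ W d) z,
      (Φ i ![a, d]).D V hV (hl ha hd) z =
        (Φ i ![a, b]).D V hV (hl ha hb) z + (Φ i ![b, d]).D V hV (hl hb hd) z := by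
    intro i a b d V hV ha hb hd z
    refine germO_ext fun y hy => ?_
    have hle : V ≤ inter W ![a, b, d] := le_iInf fun e => by
      fin_cases e
      · exact ha
      · exact hb
      · exact hd
    have e := congrArg (evT V y hy (hle hy) z) (congr_fun (c' i).2 ![a, b, d])
    rw [dC_apply, Fin.sum_univ_three] at e
    simp only [Fin.val_zero, pow_zero, one_smul, Fin.val_one, pow_one, neg_smul, Fin.val_two, neg_one_sq,
      map_add, map_neg, evT_res, Pi.zero_apply, map_zero] at e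
    rw [hev i _ b d (by funext e; fin_cases e <;> rfl) V hV hb hd y hy (inter_le_face W ![a, b, d] 0 (hle hy)),
      hev i _ a d (by funext e; fin_cases e <;> rfl) V hV ha hd y hy (inter_le_face W ![a, b, d] 1 (hle hy)),
      hev i _ a b (by funext e; fin_cases e <;> rfl) V hV ha hb y hy (inter_le_face W ![a, b, d] 2 (hle hy))] at e
    rw [map_add]
    linear_combination (norm := abel) e
  let G : Gluing h x f iY :=
    { κ := κ, W := W, O := fun _ => ⊤, affW := hW, aff2 := h2, cover := hcov, le := fun _ => le_top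
      P := fun _ => P
      θ := fun a b => T a b (h2 a b) inf_le_left inf_le_right
      hθ := fun a b => hT a b (h2 a b) inf_le_left inf_le_right
      cocycle := fun a b d V hV ha hb hd => by
        rw [hloc a b V hV ha hb, hloc b d V hV hb hd, hloc a d V hV ha hd]
        refine Comp.eq_of_dd h hV ((hT a b hV ha hb).comp (hT b d hV hb hd)) (hT a d hV ha hd) ?_
        funext i z
        have a1 := congrFun (congrFun (dd_add h hV (hid V) (hT a b hV ha hb)
          ((hT a b hV ha hb).comp (hT b d hV hb hd))) i) z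
        have a2 := congrFun (congrFun (dd_add h hV (hid V) ((hT a b hV ha hb).comp (hT b d hV hb hd))
          (hT a d hV ha hd)) i) z
        have a3 : dd h hV (hT a b hV ha hb) ((hT a b hV ha hb).comp (hT b d hV hb hd)) =
            dd h hV (hid V) (hT b d hV hb hd) :=
          (dd_congr h hV (hT a b hV ha hb) ((hT a b hV ha hb).comp (hT b d hV hb hd))
            ((hT a b hV ha hb).comp (hid V)) ((hT a b hV ha hb).comp (hT b d hV hb hd))
            (RingHom.comp_id _).symm rfl).trans (dd_comp_left h hV (hid V) (hT b d hV hb hd) (hT a b hV ha hb))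
        simp only [a3, hdd, Pi.add_apply, Pi.zero_apply] at a1 a2 ⊢
        linear_combination -a2 - a1 + hcocyc i a b d V hV ha hb hd z }
  let E : Lft π f := ⟨G.glued, G.toBase, G.flat_toBase, G.incl, G.isPullback_incl h.surj⟩
  let Q := E.piece h hY
  haveI : Flat E.p := E.flat
  choose τ hτ hτι using fun a => exists_comp_of_mor h P Q (hW a) le_top le_top
    (G.ι (G.top a)) (G.ι_toBase (G.top a))
    ((G.fromSpec_incl (G.top a)).symm.trans
      (spec_redY_global h.surj (ker_le_nilradical h) hY E.p E.j E.pb (hW a)).symm)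
  have htwist : ∀ a b (V : X.Opens) (hV : IsAffineOpen V) (ha : V ≤ W a) (hb : V ≤ W b),
      cres h (hτ a) (hW a) ha hV = (T a b hV ha hb).comp (cres h (hτ b) (hW b) hb hV) := by
    intro a b V hV ha hb
    let o : G.Obj := ⟨a, V, hV, ha⟩
    let fV := (Q.isAffineOpen_opn hV (le_top : V ≤ ⊤)).fromSpec
    have e1 : G.ι o = spec (cres h (hτ a) (hW a) ha hV) ≫ fV := by
      rw [← G.ι_w (a := o) (b := G.top a) ha]
      erw [hτι a]
      refine Eq.trans ?_ (congrArg (spec (cres h (hτ a) (hW a) ha hV) ≫ ·) (spec_rres Q (hW a) le_top ha hV))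
      have e : (G.tr (a := o) (b := G.top a) ha).comp (τ a) = (cres h (hτ a) (hW a) ha hV).comp (Q.rres ha) := by
        refine Eq.trans ?_ (cres_comp_rres h (hW a) (hτ a) ha hV).symm
        rw [Gluing.tr]
        erw [Gluing.cmp_self]
        rw [RingHom.id_comp]
        rfl
      show spec (G.tr (a := o) (b := G.top a) ha) ≫ spec (τ a) ≫ (Q.isAffineOpen_opn (hW a) le_top).fromSpec =
        spec (cres h (hτ a) (hW a) ha hV) ≫ spec (Q.rres ha) ≫ (Q.isAffineOpen_opn (hW a) le_top).fromSpec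
      simp only [← Category.assoc]
      refine congrArg (· ≫ _) ?_
      erw [← Spec.map_comp, ← Spec.map_comp]
      exact congrArg Spec.map (CommRingCat.hom_ext e)
    have e2 : G.ι o = spec ((T a b hV ha hb).comp (cres h (hτ b) (hW b) hb hV)) ≫ fV := by
      rw [← G.ι_w (a := o) (b := G.top b) hb]
      erw [hτι b]
      refine Eq.trans ?_ (congrArg (spec ((T a b hV ha hb).comp (cres h (hτ b) (hW b) hb hV)) ≫ ·)
        (spec_rres Q (hW b) le_top hb hV))
      have e : (G.tr (a := o) (b := G.top b) hb).comp (τ b) =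
          ((T a b hV ha hb).comp (cres h (hτ b) (hW b) hb hV)).comp (Q.rres hb) := by
        refine Eq.trans ?_ ((congrArg (fun φ => (T a b hV ha hb).comp φ)
          (cres_comp_rres h (hW b) (hτ b) hb hV)).symm.trans (RingHom.comp_assoc _ _ _).symm)
        refine Eq.trans ?_ (RingHom.comp_assoc _ _ _)
        refine congrArg (fun φ : P.R (W b) →+* P.R V => φ.comp (τ b)) ?_
        rw [← hloc a b V hV ha hb]
        rfl
      show spec (G.tr (a := o) (b := G.top b) hb) ≫ spec (τ b) ≫ (Q.isAffineOpen_opn (hW b) le_top).fromSpec =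
        spec ((T a b hV ha hb).comp (cres h (hτ b) (hW b) hb hV)) ≫ spec (Q.rres hb) ≫
          (Q.isAffineOpen_opn (hW b) le_top).fromSpec
      simp only [← Category.assoc]
      refine congrArg (· ≫ _) ?_
      erw [← Spec.map_comp, ← Spec.map_comp]
      exact congrArg Spec.map (CommRingCat.hom_ext e)
    exact congrArg CommRingCat.Hom.hom (Spec.map_injective ((cancel_mono fV).1 (e1.symm.trans e2)))
  refine ⟨E, ?_⟩
  refine (mk_diffC_eq h W hW hi (E.th h hY W hW P) τ (E.comp_th h hY W hW P) hτ).trans ?_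
  funext i
  rw [← hc' i]
  refine congrArg _ (Subtype.ext (funext fun a => ?_))
  refine evT_ext fun V hV hl' y hy hU z => ?_
  have ha : V ≤ W (a 0) := hl'.trans (inter_le W a 0)
  have hb : V ≤ W (a 1) := hl'.trans (inter_le W a 1)
  rw [evT_diffC h P Q W hW hi _ _ τ hτ i a hV hl' y hy z,
    hev i a (a 0) (a 1) (by funext e; fin_cases e <;> rfl) V hV ha hb y hy hU z, ← map_neg]
  refine congrArg _ ?_
  have ct := comp_cres h (hW (a 1)) (hτ (a 1)) hb hV
  have e1 : dd h hV (comp_cres h (hW (a 0)) (hτ (a 0)) ha hV) ct =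
      dd h hV (hT (a 0) (a 1) hV ha hb) (hid V) :=
    (dd_congr h hV (comp_cres h (hW (a 0)) (hτ (a 0)) ha hV) ct ((hT (a 0) (a 1) hV ha hb).comp ct) ((hid V).comp ct)
      (htwist (a 0) (a 1) V hV ha hb) (RingHom.id_comp _).symm).trans
      (dd_comp_right h hV (hT (a 0) (a 1) hV ha hb) (hid V) ct)
  have e2 := congrFun (congrFun (dd_add h hV (hid V) (hT (a 0) (a 1) hV ha hb) (hid V)) i) z
  have e3 : dd h hV (hid V) (hid V) = 0 := by
    refine dd_unique h hV _ _ fun r => ?_
    rw [sub_self]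
    exact (tsum_zero h _).symm
  refine (congrFun (congrFun e1 i) z).trans ?_
  simp only [hdd, e3, Pi.add_apply, Pi.zero_apply] at e2
  linear_combination -e2

include h hY in
/-- Lifts up to isomorphism are a torsor under `H¹(T)^m`. -/
theorem nonempty_lft_equiv (P₀ : Lft π f) :
    Nonempty (Quot (Lft.Rel (π := π) (f := f)) ≃ (Fin m → CohTop.H (Tan x) 1)) := by
  let κ := {V : X.Opens // IsAffineOpen V}
  let W : κ → X.Opens := fun a => a.1
  have hW : ∀ a : κ, IsAffineOpen (W a) := fun a => a.2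
  have hcov : iSup W = ⊤ := eq_top_iff.2 fun y _ => by
    obtain ⟨_, ⟨V, hV, rfl⟩, hyV, -⟩ := X.isBasis_affineOpens.exists_subset_of_mem_open (Set.mem_univ y) isOpen_univ
    exact Opens.mem_iSup.2 ⟨⟨V, hV⟩, hyV⟩
  have hi : ∀ a : Fin 2 → κ, IsAffineOpen (inter W a) := fun a => by
    rw [inter_two]; exact isAffineOpen_inf (x := x) (hW _) (hW _)
  let P := P₀.piece h hY
  obtain ⟨e⟩ := nonempty_Q1_equiv_H1 x W hW hcov
  let F : Quot (Lft.Rel (π := π) (f := f)) → (Fin m → Q1 W (Tan x).obj) :=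
    Quot.lift (fun E => E.cls h hY W hW hi P) fun E E' hr => Lft.cls_eq_of_rel h hY W hW hi P hr
  have hF : Function.Bijective F := by
    refine ⟨fun u v huv => ?_, fun c => ?_⟩
    · obtain ⟨E, rfl⟩ := Quot.exists_rep u
      obtain ⟨E', rfl⟩ := Quot.exists_rep v
      exact Quot.sound (Lft.rel_of_cls_eq h hY W hW hi P hcov huv)
    · obtain ⟨E, hE⟩ := Lft.exists_cls_eq h hY W hW hi P hcov c
      exact ⟨Quot.mk _ E, hE⟩
  exact ⟨(Equiv.ofBijective F hF).trans (Equiv.piCongrRight fun _ => e)⟩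

end Groth.Agent.Lib.SmallLift
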