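import Groth.Agent.Lib.SmallLift.Iso
import Groth.Agent.Lib.SmallLift.CechQ
import Groth.Agent.Lib.SmallLift.Glue

/-!
# Morphisms of lifts and comparisons
-/

noncomputable section

universe u

open CategoryTheory CategoryTheory.Limits AlgebraicGeometry TopologicalSpace Opposite
open Groth.Agent.Lib.Cech.Complex

namespace Groth.Agent.Lib.SmallLift

open Alg

variable {A' A k : Type u} [CommRing A'] [CommRing A] [Field k] {π : A' →+* A} {ρ : A →+* k}
  {X Y : Scheme.{u}} {x : X ⟶ Spec (CommRingCat.of k)} {f : Y ⟶ Spec (CommRingCat.of A)}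
  {iY : X ⟶ Y} [IsClosedImmersion iY] [Surjective iY] {m : ℕ} {t : Fin m → A'} (h : Small π ρ t)
  {O₁ O₂ : X.Opens} (P : Piece π ρ x f iY O₁) (Q : Piece π ρ x f iY O₂)

include h in
/-- The bottom deformation fills the lift. -/
theorem surjective_spec_redY {V : X.Opens} (hV : IsAffineOpen V) (hle : V ≤ O₁) :
    Function.Surjective (Spec.map (P.redY' hle)) := fun z => by
  have hz : z ∈ Set.range (PrimeSpectrum.comap (P.redY hle)) := by
    rw [range_comap_of_surjective _ _ (P.redY_surjective h.surj hV hle)]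
    intro r hr
    rw [SetLike.mem_coe, ker_redY P h.surj hV hle] at hr
    refine z.2.mem_of_pow_mem 2 ?_
    have h2 := Ideal.mul_mem_mul hr hr
    rw [← Ideal.map_mul, ker_mul_ker h, Ideal.map_bot, Ideal.mem_bot] at h2
    rw [pow_two, h2]
    exact z.asIdeal.zero_mem
  exact hz

include h in
/-- A morphism of lifts gives a comparison on every affine open. -/
theorem exists_comp_of_mor {V : X.Opens} (hV : IsAffineOpen V) (hP : V ≤ O₁) (hQ : V ≤ O₂)
    (g : Spec (P.R V) ⟶ Q.Z) (hp : g ≫ Q.p = spec (P.α V))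
    (hY : Spec.map (P.redY' hP) ≫ g = Spec.map (Q.redY' hQ) ≫ (Q.isAffineOpen_opn hV hQ).fromSpec) :
    ∃ τ : Q.R V →+* P.R V, Comp P Q hP hQ τ ∧ g = spec τ ≫ (Q.isAffineOpen_opn hV hQ).fromSpec := by
  let fS := (Q.isAffineOpen_opn hV hQ).fromSpec
  have hrange : Set.range g ⊆ Set.range fS := by
    rintro _ ⟨z, rfl⟩
    obtain ⟨w, rfl⟩ := surjective_spec_redY h P hV hP z
    exact ⟨Spec.map (Q.redY' hQ) w, congr($(hY).base w).symm⟩
  let l := IsOpenImmersion.lift fS g hrange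
  let τ : Q.R V →+* P.R V := (Spec.preimage l).hom
  have hl : spec τ = l := Spec.map_preimage l
  have hfac : g = spec τ ≫ fS := by
    rw [hl]
    exact (IsOpenImmersion.lift_fac fS g hrange).symm
  refine ⟨τ, ⟨?_, ?_⟩, hfac⟩
  · have e : spec (τ.comp (Q.α V)) = spec (P.α V) := by
      rw [← hp, hfac, Category.assoc, fromSpec_p Q hV hQ, ← Spec.map_comp, ← CommRingCat.ofHom_comp]
    exact congrArg CommRingCat.Hom.hom (Spec.map_injective e)
  · have e : Spec.map (CommRingCat.ofHom ((P.redY hP).comp τ)) ≫ fS = Spec.map (Q.redY' hQ) ≫ fS := by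
      rw [← hY, hfac, CommRingCat.ofHom_comp, Spec.map_comp, Category.assoc]
      rfl
    exact congrArg CommRingCat.Hom.hom (Spec.map_injective (cancel_mono fS |>.1 e))

include h in
/-- Compatible comparisons give an isomorphism. -/
theorem exists_iso_of_compat [Smooth x] (hO₁ : O₁ = ⊤) (hO₂ : O₂ = ⊤) {κ : Type u} (W : κ → X.Opens)
    (hW : ∀ a, IsAffineOpen (W a)) (h2 : ∀ a b, IsAffineOpen (W a ⊓ W b)) (hcov : iSup W = ⊤)
    (τ : ∀ a, Q.R (W a) →+* P.R (W a))
    (hτ : ∀ a, Comp P Q (le_of_top hO₁ (W a)) (le_of_top hO₂ (W a)) (τ a))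
    (hτc : ∀ a b (V : X.Opens) (hV : IsAffineOpen V) (ha : V ≤ W a) (hb : V ≤ W b),
      cres h (hτ a) (hW a) ha hV = cres h (hτ b) (hW b) hb hV) :
    ∃ e : P.Z ≅ Q.Z, e.hom ≫ Q.p = P.p ∧ ∀ a,
      Spec.map (P.redY' (le_of_top hO₁ (W a))) ≫ (P.isAffineOpen_opn (hW a) (le_of_top hO₁ (W a))).fromSpec ≫ e.hom =
        Spec.map (Q.redY' (le_of_top hO₂ (W a))) ≫ (Q.isAffineOpen_opn (hW a) (le_of_top hO₂ (W a))).fromSpec := by
  have hP : ∀ V, V ≤ O₁ := le_of_top hO₁
  have hQ : ∀ V, V ≤ O₂ := le_of_top hO₂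
  have hbij : ∀ a, Function.Bijective (τ a) := fun a => by
    obtain ⟨φ, hφ⟩ := exists_comp h Q P (hW a) (hQ _) (hP _)
    have b1 := bijective_of_congr h (Q.fib (surj_ρπ h) (hW a) (hQ _)) (φ.comp (τ a)) (hφ.comp (hτ a)).hα
      ((hφ.comp (hτ a)).congr_ker h.surj (hW a) (Comp.refl Q (hQ _)))
    have b2 := bijective_of_congr h (P.fib (surj_ρπ h) (hW a) (hP _)) ((τ a).comp φ) ((hτ a).comp hφ).hα
      (((hτ a).comp hφ).congr_ker h.surj (hW a) (Comp.refl P (hP _)))
    exact ⟨fun u v e => b1.1 (congrArg φ e), fun u => (b2.2 u).elim fun w hw => ⟨φ w, hw⟩⟩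
  let σ : ∀ a, P.R (W a) →+* Q.R (W a) := fun a => ((RingEquiv.ofBijective (τ a) (hbij a)).symm : P.R (W a) ≃+* Q.R (W a)).toRingHom
  have hσ : ∀ a r, σ a (τ a r) = r := fun a r => (RingEquiv.ofBijective (τ a) (hbij a)).symm_apply_apply r
  have hσ' : ∀ a r, τ a (σ a r) = r := fun a r => (RingEquiv.ofBijective (τ a) (hbij a)).apply_symm_apply r
  have hσc : ∀ a, Comp Q P (hQ _) (hP _) (σ a) := fun a =>
    ⟨RingHom.ext fun r => by
      show σ a (P.α (W a) r) = Q.α (W a) r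
      rw [← show τ a (Q.α (W a) r) = P.α (W a) r from RingHom.congr_fun (hτ a).hα r, hσ],
     RingHom.ext fun r => by
      show Q.redY (hQ _) (σ a r) = P.redY (hP _) r
      rw [← show P.redY (hP _) (τ a (σ a r)) = Q.redY (hQ _) (σ a r) from RingHom.congr_fun (hτ a).hY _, hσ']⟩
  have hτcompat : ∀ a b, ∃ θ : Q.R (W a ⊓ W b) →+* P.R (W a ⊓ W b),
      θ.comp (Q.rres inf_le_left) = (P.rres inf_le_left).comp (τ a) ∧
        θ.comp (Q.rres inf_le_right) = (P.rres inf_le_right).comp (τ b) := fun a b =>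
    ⟨cres h (hτ a) (hW a) inf_le_left (h2 a b), cres_comp_rres h _ _ _ _, by
      rw [hτc a b _ (h2 a b) inf_le_left inf_le_right]; exact cres_comp_rres h _ _ _ _⟩
  have hσcompat : ∀ a b, ∃ θ : P.R (W a ⊓ W b) →+* Q.R (W a ⊓ W b),
      θ.comp (P.rres inf_le_left) = (Q.rres inf_le_left).comp (σ a) ∧
        θ.comp (P.rres inf_le_right) = (Q.rres inf_le_right).comp (σ b) := fun a b => by
    refine ⟨cres h (hσc a) (hW a) inf_le_left (h2 a b), cres_comp_rres h _ _ _ _, ?_⟩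
    have e1 : (cres h (hσc a) (hW a) inf_le_left (h2 a b)).comp (cres h (hτ a) (hW a) inf_le_left (h2 a b)) = RingHom.id _ := by
      rw [← cres_comp h (hW a) (hσc a) (hτ a)]
      refine cres_unique h (hW a) ((hσc a).comp (hτ a)) inf_le_left (h2 a b) (RingHom.ext fun r => ?_)
      show Q.rres (inf_le_left : W a ⊓ W b ≤ W a) r = Q.rres (inf_le_left : W a ⊓ W b ≤ W a) (σ a (τ a r))
      rw [hσ]
    rw [hτc a b _ (h2 a b) inf_le_left inf_le_right] at e1
    refine RingHom.ext fun r => ?_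
    show cres h (hσc a) (hW a) inf_le_left (h2 a b) (P.rres inf_le_right r) = Q.rres inf_le_right (σ b r)
    conv_lhs => rw [← hσ' b r]
    rw [← RingHom.comp_apply (P.rres _) (τ b), ← cres_comp_rres h (hW b) (hτ b) inf_le_right (h2 a b)]
    exact RingHom.congr_fun e1 _
  obtain ⟨g, hg, hgp, hgY⟩ := exists_mor P Q hO₁ hO₂ W hW h2 hcov τ (fun a => hP _) (fun a => hQ _) hτ hτcompat
  obtain ⟨g', hg', -, -⟩ := exists_mor Q P hO₂ hO₁ W hW h2 hcov σ (fun a => hQ _) (fun a => hP _) hσc hσcompat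
  have hmk : ∀ {O : X.Opens} (P : Piece π ρ x f iY O) (hO : O = ⊤) (φ ψ : P.Z ⟶ P.Z),
      (∀ a, (P.isAffineOpen_opn (hW a) (le_of_top hO _)).fromSpec ≫ φ =
        (P.isAffineOpen_opn (hW a) (le_of_top hO _)).fromSpec ≫ ψ) → φ = ψ := by
    intro O P hO φ ψ hh
    refine Scheme.Cover.hom_ext (Scheme.Cover.mkOfCovers κ (fun a => Spec (P.R (W a)))
      (fun a => (P.isAffineOpen_opn (hW a) (le_of_top hO _)).fromSpec) (fun z => ?_) (fun a => inferInstance) :
        P.Z.OpenCover) _ _ hh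
    obtain ⟨y, rfl⟩ := P.c.surjective z
    obtain ⟨a, ha⟩ := Opens.mem_iSup.1 (hcov.ge (Opens.mem_top y.1))
    obtain ⟨w, hw⟩ := (P.isAffineOpen_opn (hW a) (le_of_top hO _)).range_fromSpec.ge
      ((Nil.apply_mem_img P.c (U := O.ι ⁻¹ᵁ W a) (y := y)).2 ha)
    exact ⟨a, w, hw⟩
  refine ⟨⟨g, g', hmk P hO₁ _ _ fun a => ?_, hmk Q hO₂ _ _ fun a => ?_⟩, hgp, hgY⟩
  · rw [← Category.assoc, hg a, Category.assoc, hg' a, ← Category.assoc, ← Spec.map_comp, ← CommRingCat.ofHom_comp,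
      show (τ a).comp (σ a) = RingHom.id _ from RingHom.ext (hσ' a), CommRingCat.ofHom_id, Spec.map_id]
    exact (Category.id_comp _).trans (Category.comp_id _).symm
  · rw [← Category.assoc, hg' a, Category.assoc, hg a, ← Category.assoc, ← Spec.map_comp, ← CommRingCat.ofHom_comp,
      show (σ a).comp (τ a) = RingHom.id _ from RingHom.ext (hσ a), CommRingCat.ofHom_id, Spec.map_id]
    exact (Category.id_comp _).trans (Category.comp_id _).symm


end Groth.Agent.Lib.SmallLift
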